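import Mathlib.CategoryTheory.Abelian.Refinements
import Mathlib.Algebra.Homology.DerivedCategory.Ext.ExactSequences
import Mathlib.CategoryTheory.Preadditive.Biproducts

/-!
# The coefficient objects `G / p ^ n` in an abelian category

`G` an object of an abelian category on which `p` is a monomorphism, `A G p n = coker (p ^ n : G ⟶ G)`.

* `mp G p m n c : A G p m ⟶ A G p n` : multiplication by `c`, when `p ^ n ∣ c * p ^ m`;
* `shortExact`: `0 ⟶ A m ⟶ A n ⟶ A k ⟶ 0` for `m + k = n` (multiplication by `p ^ k`, then the projection);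
* `nsmul_A`: `p ^ n` kills `A G p n`.
-/

set_option autoImplicit false
universe w v u
open CategoryTheory CategoryTheory.Limits

namespace K769.Coef

variable {C : Type u} [Category.{v} C] [Abelian C]

/-- `G / p ^ n` -/
noncomputable abbrev A (G : C) (p n : ℕ) : C := cokernel ((p ^ n) • 𝟙 G)

/-- the projection `G ⟶ G / p ^ n` -/
noncomputable abbrev q (G : C) (p n : ℕ) : G ⟶ A G p n := cokernel.π ((p ^ n) • 𝟙 G)

theorem pow_nsmul_q (G : C) (p n : ℕ) : (p ^ n) • q G p n = 0 := by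
  have h : ((p ^ n) • 𝟙 G) ≫ q G p n = 0 := cokernel.condition _
  rw [Preadditive.nsmul_comp, Category.id_comp] at h
  exact h

theorem nsmul_q_of_dvd (G : C) (p : ℕ) {n c : ℕ} (h : p ^ n ∣ c) : c • q G p n = 0 := by
  obtain ⟨d, rfl⟩ := h
  rw [mul_comm, mul_smul, pow_nsmul_q, smul_zero]

/-- multiplication by `c` as a map `G / p ^ m ⟶ G / p ^ n` -/
noncomputable def mp (G : C) (p m n c : ℕ) (h : p ^ n ∣ c * p ^ m) : A G p m ⟶ A G p n :=
  cokernel.desc _ (c • q G p n) (by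
    rw [Preadditive.nsmul_comp, Category.id_comp, smul_smul, mul_comm]
    exact nsmul_q_of_dvd G p h)

@[reassoc (attr := simp)]
theorem q_mp (G : C) (p m n c : ℕ) (h : p ^ n ∣ c * p ^ m) : q G p m ≫ mp G p m n c h = c • q G p n :=
  cokernel.π_desc _ _ _

theorem mp_comp (G : C) (p : ℕ) {m n l c d : ℕ} (h : p ^ n ∣ c * p ^ m) (h' : p ^ l ∣ d * p ^ n) :
    mp G p m n c h ≫ mp G p n l d h' = mp G p m l (c * d) (by
      obtain ⟨e, he⟩ := h
      rw [mul_comm c d, mul_assoc, he, ← mul_assoc]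
      exact h'.mul_right e) := by
  rw [← cancel_epi (q G p m), q_mp_assoc, Preadditive.nsmul_comp, q_mp, q_mp, smul_smul]

theorem mp_one (G : C) (p n : ℕ) : mp G p n n 1 (by rw [one_mul]) = 𝟙 _ := by
  rw [← cancel_epi (q G p n), q_mp, one_smul, Category.comp_id]

theorem mp_congr (G : C) (p m n : ℕ) {c d : ℕ} (h : p ^ n ∣ c * p ^ m) (e : c = d) :
    mp G p m n c h = mp G p m n d (e ▸ h) := by
  subst e; rfl

theorem nsmul_mp (G : C) (p m n : ℕ) {c d : ℕ} (h : p ^ n ∣ c * p ^ m) :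
    d • mp G p m n c h = mp G p m n (d * c) (by rw [mul_assoc]; exact h.mul_left d) := by
  rw [← cancel_epi (q G p m), Preadditive.comp_nsmul, q_mp, q_mp, smul_smul]

theorem mp_eq_zero (G : C) (p m n : ℕ) {c : ℕ} (h : p ^ n ∣ c * p ^ m) (hc : p ^ n ∣ c) : mp G p m n c h = 0 := by
  rw [← cancel_epi (q G p m), q_mp, comp_zero, nsmul_q_of_dvd G p hc]

theorem nsmul_A (G : C) (p n : ℕ) : (p ^ n) • 𝟙 (A G p n) = 0 := by
  rw [← cancel_epi (q G p n), Preadditive.comp_nsmul, Category.comp_id, comp_zero, pow_nsmul_q]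

theorem mono_pow (G : C) (p : ℕ) [hG : Mono (p • 𝟙 G)] (n : ℕ) : Mono ((p ^ n) • 𝟙 G) := by
  induction n with
  | zero => rw [pow_zero, one_smul]; infer_instance
  | succ n ih =>
    have e : (p ^ (n + 1)) • 𝟙 G = ((p ^ n) • 𝟙 G) ≫ (p • 𝟙 G) := by
      rw [Preadditive.comp_nsmul, Category.comp_id, smul_smul, pow_succ, mul_comm]
    rw [e]
    exact mono_comp _ _

theorem cancel_pow {G : C} {p : ℕ} [Mono (p • 𝟙 G)] (n : ℕ) {T : C} {x : T ⟶ G} (h : (p ^ n) • x = 0) : x = 0 := by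
  have := mono_pow G p n
  rw [← cancel_mono ((p ^ n) • 𝟙 G), Preadditive.comp_nsmul, Category.comp_id, zero_comp, h]

theorem dvd_i (p : ℕ) {m k n : ℕ} (h : m + k = n) : p ^ n ∣ p ^ k * p ^ m := by
  rw [← pow_add, add_comm, h]

theorem dvd_r (p : ℕ) {m k n : ℕ} (h : m + k = n) : p ^ k ∣ 1 * p ^ n := by
  rw [one_mul]
  exact pow_dvd_pow p (by omega)

/-- the complex `A m ⟶ A n ⟶ A k`, `m + k = n` -/
noncomputable abbrev ses (G : C) (p : ℕ) {m k n : ℕ} (h : m + k = n) : ShortComplex C :=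
  ShortComplex.mk (mp G p m n (p ^ k) (dvd_i p h)) (mp G p n k 1 (dvd_r p h)) (by
    rw [mp_comp]
    exact mp_eq_zero _ _ _ _ _ (by rw [mul_one]))

theorem lift_zero {G : C} {p n : ℕ} {T : C} (x : T ⟶ G) (h : x ≫ q G p n = 0) :
    ∃ (T' : C) (π : T' ⟶ T) (_ : Epi π) (y : T' ⟶ G), π ≫ x = (p ^ n) • y := by
  have ex : (ShortComplex.mk ((p ^ n) • 𝟙 G) (q G p n) (cokernel.condition _)).Exact :=
    ShortComplex.exact_cokernel _
  obtain ⟨T', π, hπ, y, hy⟩ := ex.exact_up_to_refinements x h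
  refine ⟨T', π, hπ, y, ?_⟩
  change π ≫ x = y ≫ ((p ^ n) • 𝟙 G) at hy
  rw [hy, Preadditive.comp_nsmul, Category.comp_id]

theorem shortExact (G : C) (p : ℕ) [Mono (p • 𝟙 G)] {m k n : ℕ} (h : m + k = n) : (ses G p h).ShortExact := by
  have hmono : Mono (ses G p h).f := by
    refine Preadditive.mono_of_cancel_zero _ fun {T} f hf => ?_
    obtain ⟨T', π, hπ, x, hx⟩ := surjective_up_to_refinements_of_epi (q G p m) f
    have h1 : ((p ^ k) • x) ≫ q G p n = 0 := by
      rw [Preadditive.nsmul_comp, ← Preadditive.comp_nsmul, ← q_mp G p m n (p ^ k) (dvd_i p h), ← Category.assoc, ← hx,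
        Category.assoc]
      change π ≫ f ≫ (ses G p h).f = 0
      rw [hf, comp_zero]
    obtain ⟨T'', π', hπ', y, hy⟩ := lift_zero _ h1
    have h2 : (p ^ k) • (π' ≫ x - (p ^ m) • y) = 0 := by
      rw [smul_sub, smul_smul, ← Preadditive.comp_nsmul, hy, ← pow_add, add_comm, h, sub_self]
    have h3 := sub_eq_zero.1 (cancel_pow k h2)
    rw [← cancel_epi π, ← cancel_epi π', comp_zero, comp_zero, hx, ← Category.assoc, h3, Preadditive.nsmul_comp,
      ← Preadditive.comp_nsmul, pow_nsmul_q, comp_zero]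
  have hepi : Epi (ses G p h).g := by
    have e : q G p n ≫ (ses G p h).g = q G p k := by
      change q G p n ≫ mp G p n k 1 (dvd_r p h) = _
      rw [q_mp, one_smul]
    have : Epi (q G p n ≫ (ses G p h).g) := by rw [e]; infer_instance
    exact epi_of_epi (q G p n) _
  refine ShortComplex.ShortExact.mk' ?_ hmono hepi
  rw [ShortComplex.exact_iff_exact_up_to_refinements]
  intro T f hf
  obtain ⟨T', π, hπ, x, hx⟩ := surjective_up_to_refinements_of_epi (q G p n) f
  have h1 : x ≫ q G p k = 0 := by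
    have e : q G p n ≫ (ses G p h).g = q G p k := by
      change q G p n ≫ mp G p n k 1 (dvd_r p h) = _
      rw [q_mp, one_smul]
    rw [← e, ← Category.assoc, ← hx, Category.assoc, hf, comp_zero]
  obtain ⟨T'', π', hπ', y, hy⟩ := lift_zero _ h1
  refine ⟨T'', π' ≫ π, epi_comp _ _, y ≫ q G p m, ?_⟩
  change (π' ≫ π) ≫ f = (y ≫ q G p m) ≫ mp G p m n (p ^ k) (dvd_i p h)
  rw [Category.assoc, hx, ← Category.assoc, hy, Category.assoc, q_mp, Preadditive.comp_nsmul, Preadditive.nsmul_comp]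

end K769.Coef
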