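import Groth.Agent.EtCoh.K769.Coef
import Groth.Agent.Sga5.H177.FinIso

/-!
# Long exact sequences of `Ext Z - i` and counting

`hm Z f i : Ext Z F i →+ Ext Z F' i`, `dl Z hS i : Ext Z S.X₃ i →+ Ext Z S.X₁ (i + 1)`.
-/

set_option autoImplicit false
universe w v u
open CategoryTheory CategoryTheory.Limits CategoryTheory.Abelian

namespace K769.Les

theorem card_eq {G : Type*} {H : Type*} [AddCommGroup G] [AddCommGroup H] (f : G →+ H) :
    Nat.card G = Nat.card f.ker * Nat.card f.range := by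
  rw [Nat.card_congr (QuotientAddGroup.quotientKerEquivRange f).toEquiv.symm]
  exact (AddSubgroup.card_eq_card_quotient_mul_card_addSubgroup f.ker).trans (mul_comm _ _)

variable {C : Type u} [Category.{v} C] [Abelian C] [HasExt.{w} C] (Z : C)

/-- functoriality of `Ext Z - i` -/
noncomputable def hm {F F' : C} (f : F ⟶ F') (i : ℕ) : Ext Z F i →+ Ext Z F' i :=
  (Ext.mk₀ f).postcomp Z (add_zero i)

theorem hm_apply {F F' : C} (f : F ⟶ F') (i : ℕ) (x : Ext Z F i) :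
    hm Z f i x = x.comp (Ext.mk₀ f) (add_zero i) := rfl

/-- the connecting homomorphism -/
noncomputable def dl {S : ShortComplex C} (hS : S.ShortExact) (i : ℕ) : Ext Z S.X₃ i →+ Ext Z S.X₁ (i + 1) :=
  hS.extClass.postcomp Z rfl

theorem dl_apply {S : ShortComplex C} (hS : S.ShortExact) (i : ℕ) (x : Ext Z S.X₃ i) :
    dl Z hS i x = x.comp hS.extClass rfl := rfl

theorem hm_comp {F F' F'' : C} (f : F ⟶ F') (g : F' ⟶ F'') (i : ℕ) (x : Ext Z F i) :
    hm Z (f ≫ g) i x = hm Z g i (hm Z f i x) := by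
  simp only [hm_apply, Ext.comp_assoc_of_third_deg_zero, Ext.mk₀_comp_mk₀]

theorem hm_id {F : C} (i : ℕ) (x : Ext Z F i) : hm Z (𝟙 F) i x = x := by
  simp only [hm_apply, Ext.comp_mk₀_id]

theorem hm_zero {F F' : C} (i : ℕ) (x : Ext Z F i) : hm Z (0 : F ⟶ F') i x = 0 := by
  simp only [hm_apply, Ext.mk₀_zero, Ext.comp_zero]

theorem hm_add {F F' : C} (f g : F ⟶ F') (i : ℕ) (x : Ext Z F i) : hm Z (f + g) i x = hm Z f i x + hm Z g i x := by
  simp only [hm_apply, Ext.mk₀_add, Ext.comp_add]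

theorem hm_nsmul {F F' : C} (c : ℕ) (f : F ⟶ F') (i : ℕ) (x : Ext Z F i) : hm Z (c • f) i x = c • hm Z f i x := by
  induction c with
  | zero => rw [zero_smul, zero_smul, hm_zero]
  | succ c ih => rw [succ_nsmul, succ_nsmul, hm_add, ih]

/-- naturality of the connecting homomorphism -/
theorem dl_nat {S S' : ShortComplex C} (hS : S.ShortExact) (hS' : S'.ShortExact) (φ : S ⟶ S') (i : ℕ)
    (x : Ext Z S.X₃ i) : dl Z hS' i (hm Z φ.τ₃ i x) = hm Z φ.τ₁ (i + 1) (dl Z hS i x) := by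
  rw [dl_apply, dl_apply, hm_apply, hm_apply, Ext.comp_assoc_of_third_deg_zero, Ext.comp_assoc_of_second_deg_zero,
    ShortComplex.ShortExact.extClass_naturality hS hS' φ]

section
variable {S : ShortComplex C} (hS : S.ShortExact)
include hS

theorem ker_g (i : ℕ) : (hm Z S.g i).ker = (hm Z S.f i).range := by
  ext x
  constructor
  · intro hx
    obtain ⟨y, hy⟩ := Ext.covariant_sequence_exact₂ _ hS x hx
    exact ⟨y, hy⟩
  · rintro ⟨y, rfl⟩
    rw [AddMonoidHom.mem_ker, ← hm_comp, S.zero, hm_zero]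

theorem ker_dl (i : ℕ) : (dl Z hS i).ker = (hm Z S.g i).range := by
  ext x
  constructor
  · intro hx
    obtain ⟨y, hy⟩ := Ext.covariant_sequence_exact₃ _ hS x rfl hx
    exact ⟨y, hy⟩
  · rintro ⟨y, rfl⟩
    rw [AddMonoidHom.mem_ker, dl_apply, hm_apply]
    simp only [Ext.comp_assoc_of_second_deg_zero, ShortComplex.ShortExact.comp_extClass, Ext.comp_zero]

theorem ker_f (i : ℕ) : (hm Z S.f (i + 1)).ker = (dl Z hS i).range := by
  ext x
  constructor
  · intro hx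
    obtain ⟨y, hy⟩ := Ext.covariant_sequence_exact₁ _ hS x hx rfl
    exact ⟨y, hy⟩
  · rintro ⟨y, rfl⟩
    rw [AddMonoidHom.mem_ker, dl_apply, hm_apply]
    simp only [Ext.comp_assoc_of_third_deg_zero, ShortComplex.ShortExact.extClass_comp, Ext.comp_zero]

theorem ker_f_zero : (hm Z S.f 0).ker = ⊥ := by
  have := hS.mono_f
  exact (AddMonoidHom.ker_eq_bot_iff _).2 (Ext.postcomp_mk₀_injective_of_mono _ S.f)

theorem card₁_zero : Nat.card (Ext Z S.X₁ 0) = Nat.card (hm Z S.f 0).range := by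
  rw [card_eq (hm Z S.f 0), ker_f_zero Z hS, AddSubgroup.card_bot, one_mul]

theorem card₁_succ (i : ℕ) :
    Nat.card (Ext Z S.X₁ (i + 1)) = Nat.card (dl Z hS i).range * Nat.card (hm Z S.f (i + 1)).range := by
  rw [card_eq (hm Z S.f (i + 1)), ker_f Z hS]

theorem card₂ (i : ℕ) : Nat.card (Ext Z S.X₂ i) = Nat.card (hm Z S.f i).range * Nat.card (hm Z S.g i).range := by
  rw [card_eq (hm Z S.g i), ker_g Z hS]

theorem card₃ (i : ℕ) : Nat.card (Ext Z S.X₃ i) = Nat.card (hm Z S.g i).range * Nat.card (dl Z hS i).range := by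
  rw [card_eq (dl Z hS i), ker_dl Z hS]

theorem finite₂ (i : ℕ) [Finite (Ext Z S.X₁ i)] [Finite (Ext Z S.X₃ i)] : Finite (Ext Z S.X₂ i) := by
  have h1 : Finite (hm Z S.g i).ker := by
    rw [ker_g Z hS]
    exact Finite.of_surjective (hm Z S.f i).rangeRestrict (hm Z S.f i).rangeRestrict_surjective
  have h2 : Finite (Ext Z S.X₂ i ⧸ (hm Z S.g i).ker) := by
    refine Finite.of_injective (QuotientAddGroup.kerLift (hm Z S.g i)) (QuotientAddGroup.kerLift_injective _)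
  exact Finite.of_addSubgroup_quotient (hm Z S.g i).ker

theorem subsingleton₂ (i : ℕ) [Subsingleton (Ext Z S.X₁ i)] [Subsingleton (Ext Z S.X₃ i)] :
    Subsingleton (Ext Z S.X₂ i) := by
  refine ⟨fun x y => ?_⟩
  suffices h : ∀ x : Ext Z S.X₂ i, x = 0 by rw [h x, h y]
  intro x
  obtain ⟨y, hy⟩ := Ext.covariant_sequence_exact₂ _ hS x (Subsingleton.elim _ _)
  rw [← hy, Subsingleton.elim y 0, Ext.zero_comp]

end

/-- the (multiplicative) Euler characteristic in degrees `0, 1, 2, 3` is `1` -/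
def ChiOne (F : C) : Prop :=
  Nat.card (Ext Z F 0) * Nat.card (Ext Z F 2) = Nat.card (Ext Z F 1) * Nat.card (Ext Z F 3)

/-- Euler characteristic in degrees `0, 1, 2, 3`. -/
theorem euler {S : ShortComplex C} (hS : S.ShortExact)
    (h₁ : ∀ i ≤ 3, Finite (Ext Z S.X₁ i)) (h₃ : ∀ i ≤ 3, Finite (Ext Z S.X₃ i))
    (hv : Subsingleton (Ext Z S.X₁ 4))
    (e₁ : ChiOne Z S.X₁) (e₃ : ChiOne Z S.X₃) : ChiOne Z S.X₂ := by
  unfold ChiOne at e₁ e₃ ⊢
  have hd : Nat.card (dl Z hS 3).range = 1 := by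
    have : Subsingleton (dl Z hS 3).range := ⟨fun a b => Subtype.ext (hv.elim _ _)⟩
    exact Nat.card_unique
  have P1 : ∀ i ≤ 3, 0 < Nat.card (Ext Z S.X₁ i) := fun i hi => by have := h₁ i hi; exact Nat.card_pos
  have P3 : ∀ i ≤ 3, 0 < Nat.card (Ext Z S.X₃ i) := fun i hi => by have := h₃ i hi; exact Nat.card_pos
  have a1 := P1 1 (by norm_num)
  have a3 := P1 3 (by norm_num)
  have c1 := P3 1 (by norm_num)
  have c3 := P3 3 (by norm_num)
  rw [card₁_zero Z hS, card₁_succ Z hS 0, card₁_succ Z hS 1, card₁_succ Z hS 2] at e₁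
  rw [card₁_succ Z hS] at a1 a3
  rw [card₃ Z hS 0, card₃ Z hS 1, card₃ Z hS 2, card₃ Z hS 3, hd] at e₃
  rw [card₃ Z hS] at c1 c3
  rw [card₂ Z hS 0, card₂ Z hS 1, card₂ Z hS 2, card₂ Z hS 3]
  simp only [Nat.reduceAdd] at *
  set x0 := Nat.card (hm Z S.f 0).range
  set x1 := Nat.card (hm Z S.f 1).range
  set x2 := Nat.card (hm Z S.f 2).range
  set x3 := Nat.card (hm Z S.f 3).range
  set y0 := Nat.card (hm Z S.g 0).range
  set y1 := Nat.card (hm Z S.g 1).range
  set y2 := Nat.card (hm Z S.g 2).range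
  set y3 := Nat.card (hm Z S.g 3).range
  set z0 := Nat.card (dl Z hS 0).range
  set z1 := Nat.card (dl Z hS 1).range
  set z2 := Nat.card (dl Z hS 2).range
  -- e₁ : x0 * (z1 * x2) = z0 * x1 * (z2 * x3); e₃ : y0 * z0 * (y2 * z2) = y1 * z1 * (y3 * 1)
  have hz0 : 0 < z0 := Nat.pos_of_mul_pos_right a1 |> fun h => by
    exact Nat.pos_of_ne_zero fun h0 => by rw [h0, zero_mul] at a1; exact lt_irrefl _ a1
  have hz2 : 0 < z2 := Nat.pos_of_ne_zero fun h0 => by rw [h0, zero_mul] at a3; exact lt_irrefl _ a3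
  have hz1 : 0 < z1 := Nat.pos_of_ne_zero fun h0 => by rw [h0, mul_zero] at c1; exact lt_irrefl _ c1
  have key : (x0 * y0 * (x2 * y2)) * (z0 * z1 * z2) = (x1 * y1 * (x3 * y3)) * (z0 * z1 * z2) := by
    calc (x0 * y0 * (x2 * y2)) * (z0 * z1 * z2) = (x0 * (z1 * x2)) * (y0 * z0 * (y2 * z2)) := by ring
      _ = (z0 * x1 * (z2 * x3)) * (y1 * z1 * (y3 * 1)) := by rw [e₁, e₃]
      _ = _ := by ring
  exact Nat.eq_of_mul_eq_mul_right (Nat.mul_pos (Nat.mul_pos hz0 hz1) hz2) key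

end K769.Les
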