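import Groth.Agent.EtCoh.K769.TorMap
import Groth.Agent.EtCoh.K720.Nu

/-!
# The formal theorem on the model `sh (nuF (p ^ n)) X`

`K769.Bridge.main`.
-/

set_option autoImplicit false
universe u
open CategoryTheory CategoryTheory.Limits CategoryTheory.Abelian AlgebraicGeometry Opposite
open K769.Coef K769.Les K769.Count K769.Pair K720.Tw K769.Formal K769.TorMap
open K611.Sh K611.Seq K720.Sym K720.Pair K720.Nu

attribute [local instance 3000] K769.Inst.hsE K769.Inst.hxE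

noncomputable section

namespace K769.Bridge

section ring

variable (A : CommRingCat.{u} ⥤ AddCommGrpCat.{u}) {p : ℕ}

theorem sh_congr {A A' : CommRingCat.{u} ⥤ AddCommGrpCat.{u}} {X : Scheme.{u}} (h : (p : Γ(X, ⊤)) = 0) (φ ψ : NT p A A')
    (e : ∀ (B : CommRingCat.{u}) (hB : (p : B) = 0) (a : A.obj B), φ.app B hB a = ψ.app B hB a) :
    φ.sh (X := X) h = ψ.sh h := by
  refine K611.Sh.hom_ext _ _ _ fun U a => ?_
  refine (NT.sh_un _ _ _ _).trans ((NT.sh_un _ _ _ _).trans ?_).symm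
  rw [e]

theorem mulN_comp {X : Scheme.{u}} (h : (p : Γ(X, ⊤)) = 0) {m m' m'' k k' : ℕ} (h1 : m' ∣ m * k) (h2 : m'' ∣ m' * k')
    (h3 : m'' ∣ m * (k * k')) :
    (mulN A p m m' k h1).sh (X := X) h ≫ (mulN A p m' m'' k' h2).sh h = (mulN A p m m'' (k * k') h3).sh h := by
  rw [← NT.sh_comp]
  refine sh_congr h _ _ fun B hB a => ?_
  obtain ⟨x, rfl⟩ := cm_surjective a
  change (mulN A p m' m'' k' h2).app B hB (k • cm x) = (k * k') • cm x
  rw [map_nsmul]
  change k • (k' • cm x) = (k * k') • cm x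
  rw [smul_smul]

theorem mulN_one {X : Scheme.{u}} (h : (p : Γ(X, ⊤)) = 0) {m : ℕ} (h1 : m ∣ m * 1) :
    (mulN A p m m 1 h1).sh (X := X) h = 𝟙 _ := by
  refine K611.Sh.hom_ext _ _ _ fun U a => ?_
  refine (NT.sh_un _ _ _ _).trans ?_
  obtain ⟨x, rfl⟩ := cm_surjective a
  change un _ U (1 • cm x) = _
  rw [one_smul]
  rfl

theorem mulN_congr {X : Scheme.{u}} (h : (p : Γ(X, ⊤)) = 0) {m m' k k' : ℕ} (h1 : m' ∣ m * k) (h2 : m' ∣ m * k')
    (e : k = k') : (mulN A p m m' k h1).sh (X := X) h = (mulN A p m m' k' h2).sh h := by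
  subst e; rfl

/-- the projection formula -/
theorem symB_mulN_left {B : CommRingCat.{u}} (hB : (p : B) = 0) {m n k : ℕ} (h1 : n ∣ m * k) (h2 : m ∣ n * 1)
    (a : (nuF m).obj B) (b : (nuF n).obj B) :
    (symB p n).app B hB ((mulN GmF p m n k h1).app B hB a) b =
      (mulN TnF p m n k h1).app B hB ((symB p m).app B hB a ((mulN GmF p n m 1 h2).app B hB b)) := by
  obtain ⟨v, rfl⟩ := cu_surjective a
  obtain ⟨w, rfl⟩ := cu_surjective b
  have e1 : (mulN GmF p m n k h1).app B hB (cu v) = k • cu v := rfl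
  have e2 : (mulN GmF p n m 1 h2).app B hB (cu w) = 1 • cu w := rfl
  rw [e1, e2, map_nsmul, one_smul, AddMonoidHom.nsmul_apply, symB_cu, symB_cu]
  rfl

/-- the projection formula -/
theorem symB_mulN_right {B : CommRingCat.{u}} (hB : (p : B) = 0) {m n k : ℕ} (h1 : n ∣ m * k) (h2 : m ∣ n * 1)
    (a : (nuF n).obj B) (b : (nuF m).obj B) :
    (symB p n).app B hB a ((mulN GmF p m n k h1).app B hB b) =
      (mulN TnF p m n k h1).app B hB ((symB p m).app B hB ((mulN GmF p n m 1 h2).app B hB a) b) := by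
  obtain ⟨v, rfl⟩ := cu_surjective a
  obtain ⟨w, rfl⟩ := cu_surjective b
  have e1 : (mulN GmF p m n k h1).app B hB (cu w) = k • cu w := rfl
  have e2 : (mulN GmF p n m 1 h2).app B hB (cu v) = 1 • cu v := rfl
  rw [e1, e2, map_nsmul, one_smul, symB_cu, symB_cu]
  rfl

end ring

variable {X : Scheme.{u}} {p : ℕ} (h : (p : Γ(X, ⊤)) = 0)

/-- the projection formula on sheaves -/
theorem sh_mulN_left {m n k : ℕ} (h1 : n ∣ m * k) (h2 : m ∣ n * 1) (U : X.Etale) (a : EtCoh.sect (sh (nuF m) X) U)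
    (b : EtCoh.sect (sh (nuF n) X) U) :
    ((symB p n).sh h).app U (ap ((mulN GmF p m n k h1).sh h) U a) b =
      ap ((mulN TnF p m n k h1).sh h) U (((symB p m).sh h).app U a (ap ((mulN GmF p n m 1 h2).sh h) U b)) := by
  refine sect_induction₂ a b _ _ fun V g a₀ b₀ ha₀ hb₀ => ?_
  rw [← ap_rs, ← ((symB p n).sh h).nat, ← ((symB p m).sh h).nat, ← ap_rs, ← ap_rs, ← ha₀, ← hb₀]
  have e1 : ap ((mulN GmF p m n k h1).sh h) V (un (nuF m) V a₀) = un (nuF n) V _ := NT.sh_un _ h V a₀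
  have e2 : ap ((mulN GmF p n m 1 h2).sh h) V (un (nuF n) V b₀) = un (nuF m) V _ := NT.sh_un _ h V b₀
  rw [e1, e2, Bi.sh_un, Bi.sh_un, symB_mulN_left _ h1 h2]
  exact (NT.sh_un _ h V _).symm

/-- the projection formula on sheaves -/
theorem sh_mulN_right {m n k : ℕ} (h1 : n ∣ m * k) (h2 : m ∣ n * 1) (U : X.Etale) (a : EtCoh.sect (sh (nuF n) X) U)
    (b : EtCoh.sect (sh (nuF m) X) U) :
    ((symB p n).sh h).app U a (ap ((mulN GmF p m n k h1).sh h) U b) =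
      ap ((mulN TnF p m n k h1).sh h) U (((symB p m).sh h).app U (ap ((mulN GmF p n m 1 h2).sh h) U a) b) := by
  refine sect_induction₂ a b _ _ fun V g a₀ b₀ ha₀ hb₀ => ?_
  rw [← ap_rs, ← ((symB p n).sh h).nat, ← ((symB p m).sh h).nat, ← ap_rs, ← ap_rs, ← ha₀, ← hb₀]
  have e1 : ap ((mulN GmF p m n k h1).sh h) V (un (nuF m) V b₀) = un (nuF n) V _ := NT.sh_un _ h V b₀
  have e2 : ap ((mulN GmF p n m 1 h2).sh h) V (un (nuF n) V a₀) = un (nuF m) V _ := NT.sh_un _ h V a₀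
  rw [e1, e2, Bi.sh_un, Bi.sh_un, symB_mulN_right _ h1 h2]
  exact (NT.sh_un _ h V _).symm

variable (X p) in
/-- the two models of `G_m / p ^ n` -/
def en (n : ℕ) : nu X p n ≅ sh (nuF (p ^ n)) X := nuIso X (p ^ n)

theorem π_nuIso (m : ℕ) : cokernel.π (EtCoh.powMap X m) ≫ (nuIso X m).hom =
    (K611.Exact.gmIso X).hom ≫ (cmN GmF 0 m).sh (charP_zero X) := by
  have h2 : cokernel.π (EtCoh.powMap X m) ≫ (cokernel.mapIso (EtCoh.powMap X m) (m • 𝟙 (sh GmF X))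
      (K611.Exact.gmIso X) (K611.Exact.gmIso X) (by
        rw [EtCoh.powMap, Preadditive.nsmul_comp, Preadditive.comp_nsmul, Category.id_comp, Category.comp_id])).hom =
      (K611.Exact.gmIso X).hom ≫ cokernel.π (m • 𝟙 (sh GmF X)) := cokernel.π_desc _ _ _
  unfold nuIso
  rw [Iso.trans_hom, ← Category.assoc, h2, Category.assoc, π_shMod]

theorem q_en (n : ℕ) : q (EtCoh.Gm X) p n ≫ (en X p n).hom =
    (K611.Exact.gmIso X).hom ≫ (cmN GmF 0 (p ^ n)).sh (charP_zero X) := π_nuIso (p ^ n)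

/-- the maps `mp` in terms of `mulN` -/
theorem mp_en {m n c : ℕ} (h1 : p ^ n ∣ c * p ^ m) (h2 : p ^ n ∣ p ^ m * c) :
    mp (EtCoh.Gm X) p m n c h1 ≫ (en X p n).hom = (en X p m).hom ≫ (mulN GmF p (p ^ m) (p ^ n) c h2).sh h := by
  rw [← cancel_epi (q (EtCoh.Gm X) p m), q_mp_assoc, Preadditive.nsmul_comp, q_en, ← Category.assoc, q_en,
    Category.assoc, ← Preadditive.comp_nsmul]
  congr 1
  refine K611.Sh.hom_ext _ _ _ fun U a => ?_
  have e0 : ∀ c : ℕ, (c • (cmN GmF 0 (p ^ n)).sh (charP_zero X)).hom.app (op U) (un GmF U a) =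
      c • un (nuF (p ^ n)) U (cm a) := by
    intro c
    induction c with
    | zero => rw [zero_smul, zero_smul]; rfl
    | succ c ih =>
      rw [succ_nsmul, succ_nsmul, ← ih]
      exact congrArg (fun t => (c • (cmN GmF 0 (p ^ n)).sh (charP_zero X)).hom.app (op U) (un GmF U a) + t)
        (NT.sh_un (cmN GmF 0 (p ^ n)) (charP_zero X) U a)
  refine (e0 c).trans ?_
  have e1 := NT.sh_un (cmN GmF 0 (p ^ m)) (charP_zero X) U a
  have e2 := NT.sh_un (mulN GmF p (p ^ m) (p ^ n) c h2) h U (cm a)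
  refine Eq.trans ?_ (congrArg (((mulN GmF p (p ^ m) (p ^ n) c h2).sh h).hom.app (op U)) e1).symm
  refine Eq.trans ?_ e2.symm
  rw [← map_nsmul]
  rfl

theorem en_inv_mp {m n c : ℕ} (h1 : p ^ n ∣ c * p ^ m) (h2 : p ^ n ∣ p ^ m * c) :
    (en X p m).inv ≫ mp (EtCoh.Gm X) p m n c h1 = (mulN GmF p (p ^ m) (p ^ n) c h2).sh h ≫ (en X p n).inv := by
  rw [Iso.inv_comp_eq, ← Category.assoc, ← mp_en h h1 h2, Category.assoc, Iso.hom_inv_id, Category.comp_id]

theorem dvd1 (p : ℕ) {m n : ℕ} (hmn : m ≤ n) : p ^ n ∣ p ^ m * p ^ (n - m) := by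
  rw [← pow_add, Nat.add_sub_cancel' hmn]

theorem dvd2 (p : ℕ) {m n : ℕ} (hmn : m ≤ n) : p ^ m ∣ p ^ n * 1 := by
  rw [mul_one]
  exact pow_dvd_pow p hmn

/-- multiplication by `p ^ (n - m)` on symbols -/
def vN (m n : ℕ) : sh (QnF (p ^ m)) X ⟶ sh (QnF (p ^ n)) X :=
  if hmn : m ≤ n then (mulN TnF p (p ^ m) (p ^ n) (p ^ (n - m)) (dvd1 p hmn)).sh h else 0

theorem vN_eq {m n : ℕ} (hmn : m ≤ n) :
    vN h m n = (mulN TnF p (p ^ m) (p ^ n) (p ^ (n - m)) (dvd1 p hmn)).sh (X := X) h := dif_pos hmn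

/-- the system of symbols -/
def sys : Sys X p where
  Q n := sh (QnF (p ^ n)) X
  v m n := vN h m n
  v_comp l m n hlm hmn := by
    rw [vN_eq h hlm, vN_eq h hmn, vN_eq h (hlm.trans hmn), mulN_comp _ h _ _ (by
      rw [← mul_assoc]
      exact (dvd1 p hmn).trans (mul_dvd_mul_right (dvd1 p hlm) _))]
    refine mulN_congr _ h _ _ ?_
    rw [← pow_add]
    congr 1
    omega
  β n := pre ((symB p (p ^ n)).sh h) (en X p n).hom (en X p n).hom
  P1 m n hmn U a b := by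
    rw [pre_app, pre_app, ← ap_comp, ← ap_comp, mp_en h _ (dvd1 p hmn), mp_en h _ (dvd2 p hmn), ap_comp, ap_comp,
      sh_mulN_left h (dvd1 p hmn) (dvd2 p hmn), vN_eq h hmn]
  P2 m n hmn U a b := by
    rw [pre_app, pre_app, ← ap_comp, ← ap_comp, mp_en h _ (dvd1 p hmn), mp_en h _ (dvd2 p hmn), ap_comp, ap_comp,
      sh_mulN_right h (dvd1 p hmn) (dvd2 p hmn), vN_eq h hmn]

end K769.Bridge
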