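import Groth.Agent.EtCoh.K769.Les

/-!
# `H^i(G / p ^ n) ≃+ H^(3-i)(G / p ^ n)` from the orders of `H^0` and `H^3`

`M1` : `G` an object of an abelian category on which `p` is a monomorphism, `A n = G / p ^ n`, `H^i = Ext Z - i`.  If
`H^i(A 1)` is finite for `i ≤ 3` and zero for `i = 4`, `|H^0(A n)| = |H^3(A n)|` for all `n` and
`|H^1(A 1)| = |H^2(A 1)|`, then `H^i(A n)` is finite and isomorphic to `H^(3-i)(A n)` for all `n` and `i ≤ 3`.
-/

set_option autoImplicit false
universe w v u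
open CategoryTheory CategoryTheory.Limits CategoryTheory.Abelian K769.Coef K769.Les
open Groth.Agent.Sga5.H177.FinIso (mul card_quot card_ker_dvd nonempty_addEquiv)

namespace K769.Count

variable {C : Type u} [Category.{v} C] [Abelian C] [HasExt.{w} C] (Z : C) (G : C) (p : ℕ)

theorem subsingleton_A_zero (i : ℕ) : Subsingleton (Ext Z (A G p 0) i) := by
  refine ⟨fun x y => ?_⟩
  suffices h : ∀ x : Ext Z (A G p 0) i, x = 0 by rw [h x, h y]
  intro x
  have h1 : 𝟙 (A G p 0) = 0 := by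
    have := nsmul_A G p 0
    rwa [pow_zero, one_smul] at this
  rw [← hm_id Z i x, h1, hm_zero]

theorem nsmul_eq_zero (n i : ℕ) (x : Ext Z (A G p n) i) : (p ^ n) • x = 0 := by
  rw [← hm_id Z i x, ← hm_nsmul, nsmul_A, hm_zero]

variable [Mono (p • 𝟙 G)]

theorem finite_A (h1 : ∀ i ≤ 3, Finite (Ext Z (A G p 1) i)) (n : ℕ) : ∀ i ≤ 3, Finite (Ext Z (A G p n) i) := by
  induction n with
  | zero => intro i _; have := subsingleton_A_zero Z G p i; infer_instance
  | succ n ih =>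
    intro i hi
    have := ih i hi
    have := h1 i hi
    exact finite₂ Z (shortExact G p (m := n) (k := 1) (n := n + 1) rfl) i

theorem subsingleton_A (i : ℕ) (h1 : Subsingleton (Ext Z (A G p 1) i)) (n : ℕ) :
    Subsingleton (Ext Z (A G p n) i) := by
  induction n with
  | zero => exact subsingleton_A_zero Z G p i
  | succ n ih => exact subsingleton₂ Z (shortExact G p (m := n) (k := 1) (n := n + 1) rfl) i

theorem euler_A (h1 : ∀ i ≤ 3, Finite (Ext Z (A G p 1) i)) (hv : Subsingleton (Ext Z (A G p 1) 4))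
    (e : ChiOne Z (A G p 1)) (n : ℕ) : ChiOne Z (A G p n) := by
  induction n with
  | zero =>
    have := fun i => subsingleton_A_zero Z G p i
    have h : ∀ i, Nat.card (Ext Z (A G p 0) i) = 1 := fun i => Nat.card_unique
    unfold ChiOne
    rw [h, h, h, h]
  | succ n ih =>
    have hS := shortExact G p (m := n) (k := 1) (n := n + 1) rfl
    have a1 : ∀ i ≤ 3, Finite (Ext Z (ses G p (m := n) (k := 1) (n := n + 1) rfl).X₁ i) := finite_A Z G p h1 n
    have a3 : ∀ i ≤ 3, Finite (Ext Z (ses G p (m := n) (k := 1) (n := n + 1) rfl).X₃ i) := h1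
    have a4 : Subsingleton (Ext Z (ses G p (m := n) (k := 1) (n := n + 1) rfl).X₁ 4) := subsingleton_A Z G p 4 hv n
    have b1 : ChiOne Z (ses G p (m := n) (k := 1) (n := n + 1) rfl).X₁ := ih
    have b3 : ChiOne Z (ses G p (m := n) (k := 1) (n := n + 1) rfl).X₃ := e
    have b := euler Z hS a1 a3 a4 b1 b3
    exact b

/-- the sequence `0 ⟶ G ⟶ G ⟶ G / p ^ n ⟶ 0` -/
noncomputable abbrev sG (n : ℕ) : ShortComplex C := ShortComplex.mk ((p ^ n) • 𝟙 G) (q G p n) (cokernel.condition _)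

omit [HasExt.{w} C] in
theorem shortExact_sG (n : ℕ) : (sG G p n).ShortExact :=
  ShortComplex.ShortExact.mk' (ShortComplex.exact_cokernel _) (mono_pow G p n) inferInstance

/-- the boundary `H^i(G / p ^ n) ⟶ H^(i+1)(G)` -/
noncomputable abbrev bd (n i : ℕ) : Ext Z (A G p n) i →+ Ext Z G (i + 1) := dl Z (shortExact_sG G p n) i

theorem range_bd (n i : ℕ) : (bd Z G p n i).range = (mul (p ^ n) (Ext Z G (i + 1))).ker := by
  rw [← ker_f Z (shortExact_sG G p n) i]
  ext x
  rw [AddMonoidHom.mem_ker, AddMonoidHom.mem_ker, hm_nsmul, hm_id]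
  rfl

theorem ker_q (n i : ℕ) : (hm Z (q G p n) i).ker = (mul (p ^ n) (Ext Z G i)).range := by
  have h := ker_g Z (shortExact_sG G p n) i
  change (hm Z (q G p n) i).ker = (hm Z ((p ^ n) • 𝟙 G) i).range at h
  rw [h]
  ext x
  constructor
  · rintro ⟨y, rfl⟩
    exact ⟨y, by rw [hm_nsmul, hm_id]; rfl⟩
  · rintro ⟨y, rfl⟩
    exact ⟨y, by rw [hm_nsmul, hm_id]; rfl⟩

theorem ker_bd (n i : ℕ) : (bd Z G p n i).ker = (hm Z (q G p n) i).range := ker_dl Z (shortExact_sG G p n) i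

/-- compatibility of the boundary with `A j ⟶ A n` -/
theorem bd_mp {j n : ℕ} (h : j ≤ n) (i : ℕ) (x : Ext Z (A G p j) i) :
    bd Z G p n i (hm Z (mp G p j n (p ^ (n - j)) (dvd_i p (by omega))) i x) = bd Z G p j i x := by
  let φ : sG G p j ⟶ sG G p n :=
    { τ₁ := 𝟙 G
      τ₂ := (p ^ (n - j)) • 𝟙 G
      τ₃ := mp G p j n (p ^ (n - j)) (dvd_i p (by omega))
      comm₁₂ := by
        change 𝟙 G ≫ ((p ^ n) • 𝟙 G) = ((p ^ j) • 𝟙 G) ≫ ((p ^ (n - j)) • 𝟙 G)
        rw [Category.id_comp, Preadditive.comp_nsmul, Category.comp_id, smul_smul, ← pow_add]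
        congr 2; omega
      comm₂₃ := by
        change ((p ^ (n - j)) • 𝟙 G) ≫ q G p n = q G p j ≫ mp G p j n (p ^ (n - j)) _
        rw [q_mp, Preadditive.nsmul_comp, Category.id_comp] }
  have := dl_nat Z (shortExact_sG G p j) (shortExact_sG G p n) φ i x
  rw [show φ.τ₁ = 𝟙 G from rfl, hm_id] at this
  exact this

/-- the order of `H^i(A n)[p ^ j]` is the order of `H^i(A j)`, `j ≤ n` -/
theorem card_torsion {j n : ℕ} (h : j ≤ n) (i : ℕ) [Finite (Ext Z (A G p n) i)] :
    Nat.card (mul (p ^ j) (Ext Z (A G p n) i)).ker = Nat.card (Ext Z (A G p j) i) := by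
  -- the boundary on the `p ^ j`-torsion
  let E := Ext Z (A G p n) i
  let T := (mul (p ^ j) E).ker
  let f : T →+ Ext Z G (i + 1) := (bd Z G p n i).comp T.subtype
  let K := (hm Z (q G p n) i).range
  have hr : f.range = (bd Z G p j i).range := by
    apply le_antisymm
    · rintro _ ⟨x, rfl⟩
      rw [range_bd, AddMonoidHom.mem_ker]
      change (p ^ j) • bd Z G p n i x.1 = 0
      rw [← map_nsmul]
      have hx : (p ^ j) • x.1 = 0 := x.2
      rw [hx, map_zero]
    · rintro _ ⟨x, rfl⟩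
      refine ⟨⟨hm Z (mp G p j n (p ^ (n - j)) (dvd_i p (by omega))) i x, ?_⟩, bd_mp Z G p h i x⟩
      change (p ^ j) • hm Z (mp G p j n (p ^ (n - j)) (dvd_i p (by omega))) i x = 0
      rw [← map_nsmul, nsmul_eq_zero, map_zero]
  have hk : Nat.card f.ker = Nat.card (mul (p ^ j) K).ker := by
    refine Nat.card_congr
      { toFun := fun x => ⟨⟨x.1.1, ?_⟩, ?_⟩
        invFun := fun x => ⟨⟨x.1.1, ?_⟩, ?_⟩
        left_inv := fun x => rfl
        right_inv := fun x => rfl }
    · have h2 : bd Z G p n i x.1.1 = 0 := x.2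
      change x.1.1 ∈ (hm Z (q G p n) i).range
      rw [← ker_bd]
      exact h2
    · have h2 : (p ^ j) • x.1.1 = 0 := x.1.2
      rw [AddMonoidHom.mem_ker]
      exact Subtype.ext h2
    · have h2 := x.2
      rw [AddMonoidHom.mem_ker] at h2
      exact congrArg Subtype.val h2
    · have h2 : x.1.1 ∈ (hm Z (q G p n) i).range := x.1.2
      rw [← ker_bd] at h2
      exact h2
  -- `K / p ^ j ≃ range (H^i(G) → H^i(A j))`
  let ρ : K →+ Ext Z (A G p j) i := (hm Z (mp G p n j 1 (by rw [one_mul]; exact pow_dvd_pow p h)) i).comp K.subtype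
  have hq : ∀ x : Ext Z G i, hm Z (mp G p n j 1 (by rw [one_mul]; exact pow_dvd_pow p h)) i (hm Z (q G p n) i x) =
      hm Z (q G p j) i x := fun x => by rw [← hm_comp, q_mp, one_smul]
  have h3 : ρ.range = (hm Z (q G p j) i).range := by
    apply le_antisymm
    · rintro _ ⟨⟨_, x, rfl⟩, rfl⟩
      exact ⟨x, (hq x).symm⟩
    · rintro _ ⟨x, rfl⟩
      exact ⟨⟨_, x, rfl⟩, hq x⟩
  have h4 : ρ.ker = (mul (p ^ j) K).range := by
    apply le_antisymm
    · rintro ⟨_, x, rfl⟩ hx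
      have h5 : hm Z (q G p j) i x = 0 := (hq x).symm.trans hx
      have h6 : x ∈ (hm Z (q G p j) i).ker := h5
      rw [ker_q] at h6
      obtain ⟨y, hy⟩ := h6
      have hy' : (p ^ j) • y = x := hy
      refine ⟨⟨_, y, rfl⟩, Subtype.ext ?_⟩
      change (p ^ j) • hm Z (q G p n) i y = hm Z (q G p n) i x
      rw [← map_nsmul, hy']
    · rintro _ ⟨⟨_, x, rfl⟩, rfl⟩
      rw [AddMonoidHom.mem_ker]
      change hm Z (mp G p n j 1 _) i ((p ^ j) • hm Z (q G p n) i x) = 0
      rw [map_nsmul, nsmul_eq_zero]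
  have h5 : Nat.card (mul (p ^ j) K).ker = Nat.card (hm Z (q G p j) i).range := by
    rw [← card_quot K (p ^ j), ← h4, Nat.card_congr (QuotientAddGroup.quotientKerEquivRange ρ).toEquiv, h3]
  have h6 : Nat.card (Ext Z (A G p j) i) = Nat.card (bd Z G p j i).ker * Nat.card (bd Z G p j i).range := card_eq _
  rw [card_eq f, hk, h5, hr, h6, ker_bd]

/-- a finite abelian group `H^i(A n)` is determined by the orders of `H^i(A j)`, `j ≤ n` -/
theorem nonempty_addEquiv_of_card (hp : p.Prime) (n i i' : ℕ) [Finite (Ext Z (A G p n) i)]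
    [Finite (Ext Z (A G p n) i')] (h : ∀ j ≤ n, Nat.card (Ext Z (A G p j) i) = Nat.card (Ext Z (A G p j) i')) :
    Nonempty (Ext Z (A G p n) i ≃+ Ext Z (A G p n) i') := by
  refine nonempty_addEquiv p n hp _ _ (nsmul_eq_zero Z G p n i) (nsmul_eq_zero Z G p n i') fun k => ?_
  rcases le_total k n with hk | hk
  · rw [card_torsion Z G p hk i, card_torsion Z G p hk i', h k hk]
  · rw [card_ker_dvd _ (p ^ n) (p ^ k) (nsmul_eq_zero Z G p n i) (pow_dvd_pow p hk),
      card_ker_dvd _ (p ^ n) (p ^ k) (nsmul_eq_zero Z G p n i') (pow_dvd_pow p hk), h n le_rfl]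

/-- (M1) -/
theorem M1 (hp : p.Prime) (h1 : ∀ i ≤ 3, Finite (Ext Z (A G p 1) i)) (hv : Subsingleton (Ext Z (A G p 1) 4))
    (h03 : ∀ n, Nat.card (Ext Z (A G p n) 0) = Nat.card (Ext Z (A G p n) 3))
    (h12 : Nat.card (Ext Z (A G p 1) 1) = Nat.card (Ext Z (A G p 1) 2)) (n i : ℕ) (hi : i ≤ 3) :
    Finite (Ext Z (A G p n) i) ∧ Nonempty (Ext Z (A G p n) i ≃+ Ext Z (A G p n) (3 - i)) := by
  have hf := finite_A Z G p h1
  have e := euler_A Z G p h1 hv (by unfold ChiOne; rw [h03 1, h12, mul_comm])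
  have h12' : ∀ n, Nat.card (Ext Z (A G p n) 1) = Nat.card (Ext Z (A G p n) 2) := by
    intro n
    have e1 := e n
    unfold ChiOne at e1
    have := hf n 3 le_rfl
    have hpos : 0 < Nat.card (Ext Z (A G p n) 3) := Nat.card_pos
    rw [h03 n, mul_comm] at e1
    exact (Nat.eq_of_mul_eq_mul_right hpos e1).symm
  have f0 := hf n 0 (by omega)
  have f1 := hf n 1 (by omega)
  have f2 := hf n 2 (by omega)
  have f3 := hf n 3 (by omega)
  refine ⟨hf n i hi, ?_⟩
  have hi' : i = 0 ∨ i = 1 ∨ i = 2 ∨ i = 3 := by omega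
  rcases hi' with rfl | rfl | rfl | rfl
  · exact nonempty_addEquiv_of_card Z G p hp n 0 3 fun j _ => h03 j
  · exact nonempty_addEquiv_of_card Z G p hp n 1 2 fun j _ => h12' j
  · exact nonempty_addEquiv_of_card Z G p hp n 2 1 fun j _ => (h12' j).symm
  · exact nonempty_addEquiv_of_card Z G p hp n 3 0 fun j _ => (h03 j).symm

end K769.Count
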