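import Groth.Agent.EtCoh.K769.Main
import Groth.Agent.EtCoh.K720.Equi

/-!
# `EtCoh.H` and the groups `EE`
-/

set_option autoImplicit false
universe u
open CategoryTheory CategoryTheory.Limits CategoryTheory.Abelian AlgebraicGeometry Opposite
open K720.Tw K769.Formal

noncomputable section

namespace K769.HCmp

variable {X : Scheme.{u}}

/-- the identity -/
def toE (F : EtCoh.Ab X) (n : ℕ) : EtCoh.H X F n ≃+ EE F n := AddEquiv.refl _

theorem toE_map {F G : EtCoh.Ab X} (f : F ⟶ G) (n : ℕ) (x : EtCoh.H X F n) :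
    toE G n (Sheaf.H.map f n x) = hmE f n (toE F n x) := rfl

end K769.HCmp
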