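import Groth.Agent.EtCoh.K769.Final0
import Groth.Agent.EtCoh.K769.HCmp
import Groth.Prelude.Def_EtZar

/-!
# The formal theorem on the model `sh (nuF (p ^ n)) X`: final form

`K769.Final.main`.
-/

set_option autoImplicit false
universe u
open CategoryTheory CategoryTheory.Limits CategoryTheory.Abelian AlgebraicGeometry Opposite
open K769.Coef K769.Les K769.Count K769.Pair K720.Tw K769.Formal K769.TorMap K769.Bridge
open K611.Sh K611.Seq K720.Sym K720.Pair K720.Nu K720.Equi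

attribute [local instance 3000] K769.Inst.hsE K769.Inst.hxE

noncomputable section

namespace K769.Final

variable {X : Scheme.{u}} {p : ℕ} (h : (p : Γ(X, ⊤)) = 0)
variable {N3 : EtCoh.Ab X} (s : sh (QnF p) X ⟶ N3)

/-- `N1` for the torsors `torL`. -/
theorem dl_torL [Mono (p • 𝟙 (EtCoh.Gm X))] (n : ℕ) (a : ZZ X ⟶ nu X p n) (b : EE (sh (nuF p) X) 2) :
    dT (mapIso (torL n a) (en0 h)) (b1 h s) 2 b =
      dT (torL n a) (((sys h).β 1).cmp (s1 h s)) 2 (hmE (en0 h).inv 2 b) :=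
  dT_mapIso (torL n a) (en0 h) (((sys h).β 1).cmp (s1 h s)) (b1 h s) (b1_en' h s) 2 b

/-- The formal theorem, on the model `sh (nuF (p ^ n)) X`, for `EE`. -/
theorem mainE (hp : p.Prime) [Mono (p • 𝟙 (EtCoh.Gm X))] (t : EE N3 3 →+ K956.Count.T)
    (hfin : ∀ i ≤ 3, Finite (EE (nu X p 1) i)) (hv : Subsingleton (EE (nu X p 1) 4))
    (h03 : Nat.card (EE (nu X p 1) 0) = Nat.card (EE (nu X p 1) 3))
    (h12 : Nat.card (EE (nu X p 1) 1) = Nat.card (EE (nu X p 1) 2))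
    (INJ : ∀ n (hn : 1 ≤ n) (z : EE (sh (QnF p) X) 3),
      hmE ((mulN TnF p p (p ^ n) (p ^ (n - 1)) (dvd_pow_pred p hn)).sh h) 3 z = 0 → t (hmE s 3 z) = 0)
    (N0 : ∀ a : Gs (sh (nuF p) X), a ≠ 0 →
      ∃ y : EE (sh (nuF p) X) 3, t (hmE (left (((symB p p).sh h).cmp s) a) 3 y) ≠ 0)
    (N1 : ∀ T : Tor (sh (nuF p) X), (∀ x : X, ∃ V : X.Opens, x ∈ V ∧ Nonempty (T.pt ((EtZar.zarToEt X).obj V))) →
      (∀ b : EE (sh (nuF p) X) 2, t (dT T (((symB p p).sh h).cmp s) 2 b) = 0) →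
      Nonempty (T.pt (EtCoh.top X)))
    (n i : ℕ) (hi : i ≤ 3) :
    Finite (EE (nu X p n) i) ∧ Nonempty (EE (nu X p n) i ≃+ EE (nu X p n) (3 - i)) := by
  refine formal hp (sys h) N3 (s1 h s) t hfin hv h03 h12 (fun n hn z hz => ?_) ?_ ?_ n i hi
  · have e0 : hm (ZZ X) (s1 h s) 3 z = hm (ZZ X) s 3 (hm (ZZ X) (r1 h TnF) 3 z) := hm_comp _ _ _ _ _
    refine (congrArg t e0).trans (INJ n hn (hm (ZZ X) (r1 h TnF) 3 z) ?_)
    have e2 : hm (ZZ X) (r1 h TnF ≫ (mulN TnF p p (p ^ n) (p ^ (n - 1)) (dvd_pow_pred p hn)).sh h) 3 z = 0 := by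
      rw [v1 h hn]
      exact hz
    exact (hm_comp _ _ _ _ _).symm.trans e2
  · intro a ha
    obtain ⟨y, hy⟩ := N0 (gs h a) (gs_ne_zero h a ha)
    refine ⟨hm (ZZ X) (en0 h).inv 3 y, ?_⟩
    rw [mulL_gs, ← hm_comp, Iso.inv_hom_id_assoc]
    exact hy
  · intro n hn a hz hb
    obtain ⟨g⟩ := N1 (mapIso (torL n a) (en0 h)) (fun x => by
      obtain ⟨V, hxV, hV⟩ := hz x
      obtain ⟨g, hg⟩ := hV ((EtZar.zarToEt X).obj V) (by
        change Set.range V.ι ⊆ _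
        rw [Scheme.Opens.range_ι])
      exact ⟨V, hxV, ⟨⟨g, hg⟩⟩⟩) (fun b => (congrArg t (dl_torL h s n a b)).trans (hb _))
    exact ⟨g.1, g.2⟩

end K769.Final
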