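import Groth.Agent.EtCoh.K769.Bridge
import Groth.Agent.EtCoh.K720.Equi
import Groth.Prelude.Def_EtZar

/-!
# The formal theorem on the model `sh (nuF (p ^ n)) X`: preparations
-/

set_option autoImplicit false
universe u
open CategoryTheory CategoryTheory.Limits CategoryTheory.Abelian AlgebraicGeometry Opposite
open K769.Coef K769.Les K769.Count K769.Pair K720.Tw K769.Formal K769.TorMap K769.Bridge
open K611.Sh K611.Seq K720.Sym K720.Pair K720.Nu K720.Equi

attribute [local instance 3000] K769.Inst.hsE K769.Inst.hxE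

noncomputable section

namespace K769.Final

variable {X : Scheme.{u}} {p : ℕ} (h : (p : Γ(X, ⊤)) = 0)

/-- from `p ^ 1` to `p` -/
abbrev r1 (A : CommRingCat.{u} ⥤ AddCommGrpCat.{u}) : sh (modF A (p ^ 1)) X ⟶ sh (modF A p) X :=
  (mulN A p (p ^ 1) p 1 (by rw [mul_one, pow_one])).sh h

/-- from `p` to `p ^ 1` -/
abbrev r2 (A : CommRingCat.{u} ⥤ AddCommGrpCat.{u}) : sh (modF A p) X ⟶ sh (modF A (p ^ 1)) X :=
  (mulN A p p (p ^ 1) 1 (by rw [mul_one, pow_one])).sh h

/-- `p ^ 1 = p` -/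
def r12 (A : CommRingCat.{u} ⥤ AddCommGrpCat.{u}) : sh (modF A (p ^ 1)) X ≅ sh (modF A p) X where
  hom := r1 h A
  inv := r2 h A
  hom_inv_id := by
    refine (mulN_comp A h _ _ (by rw [mul_one, mul_one])).trans ?_
    exact mulN_one A h _
  inv_hom_id := by
    refine (mulN_comp A h _ _ (by rw [mul_one, mul_one])).trans ?_
    exact mulN_one A h _

/-- `G_m / p` as the sheaf of a functor -/
def en0 : nu X p 1 ≅ sh (nuF p) X := en X p 1 ≪≫ r12 h GmF

/-- compatibility of the symbols -/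
theorem symB_one (U : X.Etale) (a b : EtCoh.sect (sh (nuF (p ^ 1)) X) U) :
    ap (r1 h TnF) U (((symB p (p ^ 1)).sh h).app U a b) = ((symB p p).sh h).app U (ap (r1 h GmF) U a) (ap (r1 h GmF) U b) := by
  rw [sh_mulN_left h _ (by rw [mul_one, pow_one])]
  have e0 : r1 h GmF ≫ r2 h GmF = 𝟙 _ := (r12 h GmF).hom_inv_id
  have e1 : ap (r2 h GmF) U (ap (r1 h GmF) U b) = b := by
    rw [← ap_comp, e0]
    rfl
  exact (congrArg (fun t => ap (r1 h TnF) U (((symB p (p ^ 1)).sh h).app U a t)) e1).symm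

variable {N3 : EtCoh.Ab X} (s : sh (QnF p) X ⟶ N3)

/-- `s` on `p ^ 1` -/
abbrev s1 : sh (QnF (p ^ 1)) X ⟶ N3 := r1 h TnF ≫ s

/-- the level one pairing -/
abbrev b1 : Pairing (sh (nuF p) X) (sh (nuF p) X) N3 := ((symB p p).sh h).cmp s

theorem b1_en (U : X.Etale) (a b : EtCoh.sect (nu X p 1) U) :
    (((sys h).β 1).cmp (s1 h s)).app U a b = (b1 h s).app U (ap (en0 h).hom U a) (ap (en0 h).hom U b) := by
  change ap s U (ap (r1 h TnF) U (((symB p (p ^ 1)).sh h).app U (ap (en X p 1).hom U a) (ap (en X p 1).hom U b))) = _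
  rw [symB_one]
  rfl

theorem b1_en' (U : X.Etale) (a : EtCoh.sect (sh (nuF p) X) U) (b : EtCoh.sect (nu X p 1) U) :
    (((sys h).β 1).cmp (s1 h s)).app U (ap (en0 h).inv U a) b = (b1 h s).app U a (ap (en0 h).hom U b) := by
  rw [b1_en]
  have e1 : ap (en0 h).hom U (ap (en0 h).inv U a) = a := by
    rw [← ap_comp, Iso.inv_hom_id]
    rfl
  rw [e1]

/-- the global section of `sh (nuF p) X` attached to a section of `G_m / p` -/
def gs (a : ZZ X ⟶ nu X p 1) : Gs (sh (nuF p) X) :=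
  ⟨fun V => ap (en0 h).hom V (fam a V), fun {V W} k => by rw [← ap_rs, rs_fam]⟩

theorem gs_ne_zero (a : ZZ X ⟶ nu X p 1) (ha : a ≠ 0) : gs h a ≠ 0 := by
  intro h0
  apply ha
  apply (sec (nu X p 1)).injective
  rw [map_zero]
  apply ap_injective (en0 h).hom
  rw [map_zero, ← fam_top]
  exact congrArg (fun g : Gs (sh (nuF p) X) => g.v (EtCoh.top X)) h0

theorem mulL_gs (a : ZZ X ⟶ nu X p 1) :
    mulL ((sys h).β 1) a ≫ s1 h s = (en0 h).hom ≫ left (b1 h s) (gs h a) := by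
  refine K720.Tw.hom_ext fun V b => ?_
  exact b1_en h s V (fam a V) b

/-- `INJ` on `p ^ 1` -/
theorem v1 {n : ℕ} (hn : 1 ≤ n) (hd : p ^ n ∣ p * p ^ (n - 1)) :
    r1 h TnF ≫ (mulN TnF p p (p ^ n) (p ^ (n - 1)) hd).sh h = vN (X := X) h 1 n := by
  rw [vN_eq h hn]
  refine (mulN_comp _ h _ _ (by rw [one_mul, pow_one]; exact hd)).trans ?_
  exact mulN_congr _ h _ _ (one_mul _)

theorem dvd_pow_pred (p : ℕ) {n : ℕ} (hn : 1 ≤ n) : p ^ n ∣ p * p ^ (n - 1) := by
  rw [← pow_succ', Nat.sub_add_cancel hn]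

variable [hp : Fact p.Prime] (hX : HasCharts X (Good p))

include h hX in
/-- `p` is injective on `G_m`. -/
theorem mono_Gm : Mono (p • 𝟙 (EtCoh.Gm X)) := by
  have h1 : Mono ((pN p).sh (X := X) h) := by
    refine mono_sh hX h _ ?_
    intro B hg hB y hy q
    refine ⟨B, 𝟙 B, RingHom.Etale.of_bijective Function.bijective_id, q, rfl, ?_⟩
    rw [GmF.map_id]
    change y = 0
    have h2 : (toU y) ^ p = 1 := congrArg toU (show p • y = 0 from hy)
    have h3 : toU y = 1 := by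
      refine Units.ext (eq_of_pow_eq p hg hB _ _ 1 ?_)
      rw [pow_one]
      have := congrArg Units.val h2
      simpa using this
    exact congrArg mkU h3
  have h4 := K611.Exact.powMap_gmIso (X := X) h
  have h5 : p • 𝟙 (EtCoh.Gm X) = (K611.Exact.gmIso X).hom ≫ (pN p).sh h ≫ (K611.Exact.gmIso X).inv := by
    rw [← Category.assoc, Iso.eq_comp_inv]
    exact h4
  rw [h5]
  infer_instance

end K769.Final
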