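import Groth.Agent.EtCoh.K720.Lev1Tw

/-!
# Short names for two instances (the kernel is slow on the long ones)
-/

set_option autoImplicit false
universe u
open CategoryTheory CategoryTheory.Limits CategoryTheory.Abelian AlgebraicGeometry Opposite

namespace K769.Inst

theorem hsE (P : Scheme.{u}) : HasSheafify P.smallEtaleTopology AddCommGrpCat.{u + 1} := inferInstance

attribute [local instance 3000] hsE

theorem hxE (P : Scheme.{u}) : HasExt.{u + 1} (EtCoh.Ab P) := inferInstance

end K769.Inst
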