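import Groth.Agent.EtCoh.K769.Pair
import Groth.Agent.EtCoh.K769.Inst
import Groth.Agent.EtCoh.K956.Count
import Groth.Agent.CurvesA.LiftsTorsor
import Groth.Prelude.Def_EtGm
import Groth.Prelude.Def_EtCore

/-!
# The formal part of the duality for `G_m / p ^ n` (S18107)

`nu p n = G_m / p ^ n` on the small étale site of `X`.  `Sys X p` : sheaves `Q n`, pairings `β n : nu n × nu n → Q n`,
morphisms `v m n : Q m ⟶ Q n` (`m ≤ n`), and the two projection formulas.  `formal` : S18107 from level one data.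
-/

set_option autoImplicit false
universe u
open CategoryTheory CategoryTheory.Limits CategoryTheory.Abelian AlgebraicGeometry Opposite
open K769.Coef K769.Les K769.Count K769.Pair K720.Tw

attribute [local instance 3000] K769.Inst.hsE K769.Inst.hxE

noncomputable section

namespace K769.Formal

variable {X : Scheme.{u}}

/-- the constant sheaf `ℤ` -/
abbrev ZZ (X : Scheme.{u}) : EtCoh.Ab X :=
  (constantSheaf X.smallEtaleTopology AddCommGrpCat.{u + 1}).obj (AddCommGrpCat.of (ULift ℤ))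

/-- cohomology, with the short instances -/
abbrev EE (F : EtCoh.Ab X) (n : ℕ) : Type (u + 1) := Ext (ZZ X) F n

/-- functoriality -/
abbrev hmE {F G : EtCoh.Ab X} (f : F ⟶ G) (n : ℕ) : EE F n →+ EE G n := hm (ZZ X) f n

/-- the boundary -/
abbrev dlE {S : ShortComplex (EtCoh.Ab X)} (hS : S.ShortExact) (n : ℕ) : EE S.X₃ n →+ EE S.X₁ (n + 1) := dl (ZZ X) hS n

/-- the boundary of the twist -/
def dT {A B N : EtCoh.Ab X} (T : Tor A) (β : Pairing A B N) (n : ℕ) : EE B n →+ EE N (n + 1) :=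
  dlE (K720.Tw.shortExact T β) n

/-- morphisms from `ℤ` are global sections -/
def sec (F : EtCoh.Ab X) : (ZZ X ⟶ F) ≃+ EtCoh.sect F (EtCoh.top X) :=
  ((constantSheafAdj X.smallEtaleTopology AddCommGrpCat.{u + 1} (EtCore.topIsTerminal X)).homAddEquiv _ F).trans
    (AddCommGrpCat.uliftZMultiplesAddEquiv _)

theorem sec_comp {F G : EtCoh.Ab X} (a : ZZ X ⟶ F) (f : F ⟶ G) : sec G (a ≫ f) = ap f (EtCoh.top X) (sec F a) := rfl

/-- the map to the final object -/
abbrev tt (V : X.Etale) : V ⟶ EtCoh.top X := (EtCore.topIsTerminal X).from V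

/-- the family of sections of a morphism from `ℤ` -/
def fam {F : EtCoh.Ab X} (a : ZZ X ⟶ F) (V : X.Etale) : EtCoh.sect F V := rs F (tt V) (sec F a)

theorem rs_fam {F : EtCoh.Ab X} (a : ZZ X ⟶ F) {V W : X.Etale} (k : W ⟶ V) : rs F k (fam a V) = fam a W := by
  unfold fam
  rw [← rs_comp]
  congr 2
  exact (EtCore.topIsTerminal X).hom_ext _ _

theorem fam_comp {F G : EtCoh.Ab X} (a : ZZ X ⟶ F) (f : F ⟶ G) (V : X.Etale) : fam (a ≫ f) V = ap f V (fam a V) := by
  unfold fam
  rw [sec_comp, ap_rs]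

theorem fam_add {F : EtCoh.Ab X} (a b : ZZ X ⟶ F) (V : X.Etale) : fam (a + b) V = fam a V + fam b V := by
  unfold fam
  rw [map_add, map_add]

theorem fam_top {F : EtCoh.Ab X} (a : ZZ X ⟶ F) : fam a (EtCoh.top X) = sec F a := by
  unfold fam
  have : tt (EtCoh.top X) = 𝟙 _ := (EtCore.topIsTerminal X).hom_ext _ _
  rw [this, rs_id]

variable {A B K : EtCoh.Ab X}

/-- multiplication by a global section -/
def mulL (β : Pairing A B K) (a : ZZ X ⟶ A) : B ⟶ K :=
  mkHom (fun V => β.app V (fam a V)) (fun {V W} k s => by rw [← rs_fam a k, β.nat])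

theorem ap_mulL (β : Pairing A B K) (a : ZZ X ⟶ A) (V : X.Etale) (b : EtCoh.sect B V) :
    ap (mulL β a) V b = β.app V (fam a V) b := rfl

theorem mulL_add (β : Pairing A B K) (a a' : ZZ X ⟶ A) : mulL β (a + a') = mulL β a + mulL β a' :=
  hom_ext fun V s => by
    rw [ap_mulL, fam_add, map_add]
    rfl

theorem comp_app (β : Pairing A B K) {K' : EtCoh.Ab X} (s : K ⟶ K') (U : X.Etale) (a : EtCoh.sect A U)
    (b : EtCoh.sect B U) : (β.cmp s).app U a b = ap s U (β.app U a b) := rfl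

variable (X) (p : ℕ)

/-- `G_m / p ^ n` -/
abbrev nu (n : ℕ) : EtCoh.Ab X := Coef.A (EtCoh.Gm X) p n

variable {X}

/-- multiplication by `p ^ (n - m)` : `G_m / p ^ m ⟶ G_m / p ^ n` -/
abbrev im (m n : ℕ) (h : m ≤ n) : nu X p m ⟶ nu X p n :=
  mp (EtCoh.Gm X) p m n (p ^ (n - m)) (dvd_i p (by omega))

/-- the projection `G_m / p ^ n ⟶ G_m / p ^ m` -/
abbrev rm (n m : ℕ) (h : m ≤ n) : nu X p n ⟶ nu X p m :=
  mp (EtCoh.Gm X) p n m 1 (by rw [one_mul]; exact pow_dvd_pow p h)

variable (X)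

/-- A system of pairings `G_m / p ^ n × G_m / p ^ n → Q n` with the projection formulas. -/
structure Sys where
  /-- the targets -/
  Q : ℕ → EtCoh.Ab X
  /-- multiplication by `p ^ (n - m)` -/
  v : ∀ m n, Q m ⟶ Q n
  v_comp : ∀ l m n, l ≤ m → m ≤ n → v l m ≫ v m n = v l n
  /-- the pairings -/
  β : ∀ n, Pairing (nu X p n) (nu X p n) (Q n)
  P1 : ∀ (m n : ℕ) (h : m ≤ n) (U : X.Etale) (a : EtCoh.sect (nu X p m) U) (b : EtCoh.sect (nu X p n) U),
    (β n).app U (ap (im p m n h) U a) b = ap (v m n) U ((β m).app U a (ap (rm p n m h) U b))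
  P2 : ∀ (m n : ℕ) (h : m ≤ n) (U : X.Etale) (a : EtCoh.sect (nu X p n) U) (b : EtCoh.sect (nu X p m) U),
    (β n).app U a (ap (im p m n h) U b) = ap (v m n) U ((β m).app U (ap (rm p n m h) U a) b)

variable {X p}

/-- the torsor of liftings of a global section `a` of `nu n` to `nu (n + 1)` -/
def torL [Mono (p • 𝟙 (EtCoh.Gm X))] (n : ℕ) (a : ZZ X ⟶ nu X p n) : Tor (nu X p 1) :=
  Tor.ofSES (ses (EtCoh.Gm X) p (m := 1) (k := n) (n := n + 1) (add_comm 1 n)) (shortExact _ p _) (fam a)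
    (fun k => rs_fam a k)

variable (S : Sys X p)

/-- the data of `K769.Pair` -/
def pdata (N : ℕ) (tN : EE (S.Q N) 3 →+ K956.Count.T) : PData (ZZ X) (EtCoh.Gm X) p K956.Count.T N where
  Q := S.Q
  v := S.v
  μ n :=
    { toFun := fun a => mulL (S.β n) a
      map_zero' := hom_ext fun V s => by
        have h0 : fam (0 : ZZ X ⟶ nu X p n) V = 0 := by
          unfold fam
          rw [map_zero, map_zero]
        rw [ap_mulL, h0, map_zero]
        rfl
      map_add' := fun a a' => mulL_add _ a a' }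
  t n := tN.comp (hm (ZZ X) (S.v n N) 3)
  t_v m n h hN x := by
    rw [AddMonoidHom.comp_apply, AddMonoidHom.comp_apply, ← hm_comp, S.v_comp m n N h hN]
  P1 m n h hN a := hom_ext fun V s => by
    change (S.β n).app V (fam (a ≫ im p m n h) V) s =
      ap (S.v m n) V ((S.β m).app V (fam a V) (ap (rm p n m h) V s))
    rw [fam_comp, S.P1]
  P2 m n h hN a := hom_ext fun V s => by
    change (S.β n).app V (fam a V) (ap (im p m n h) V s) =
      ap (S.v m n) V ((S.β m).app V (fam (a ≫ rm p n m h) V) s)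
    rw [fam_comp, S.P2]

variable [Mono (p • 𝟙 (EtCoh.Gm X))]

/-- the pairing `nu 1 × nu 1 → Q 1 → Q (n + 1)` -/
abbrev βv (n : ℕ) : Pairing (nu X p 1) (nu X p 1) (S.Q (n + 1)) := (S.β 1).cmp (S.v 1 (n + 1))

/-- multiplication `nu (n + 1) ⟶ tw` -/
def toTw (n : ℕ) (a : ZZ X ⟶ nu X p n) : nu X p (n + 1) ⟶ tw (torL n a) (βv S n) := mkHom
  (fun U =>
    { toFun := fun c => K720.Tw.mk (torL n a) (βv S n) (ap (rm p (n + 1) 1 (by omega)) U c)
        (fun V f g => (S.β (n + 1)).app V g.1 (rs (nu X p (n + 1)) f c))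
        (fun V W k f g => by
          rw [rs_comp]
          exact (S.β (n + 1)).nat k g.1 _)
        (fun V f g x => by
          have e1 : (torL n a).i = im p 1 (n + 1) (by omega) :=
            mp_congr _ _ _ _ (dvd_i p (add_comm 1 n)) (by rw [Nat.add_sub_cancel])
          have e2 : ap (torL n a).i V x = ap (im p 1 (n + 1) (by omega)) V x := by rw [e1]; rfl
          have e3 := S.P1 1 (n + 1) (by omega) V x (rs (nu X p (n + 1)) f c)
          have e4 := DFunLike.congr_fun (map_add ((S.β (n + 1)).app V) (show EtCoh.sect (nu X p (n + 1)) V from g.1)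
            (ap (torL n a).i V x)) (rs (nu X p (n + 1)) f c)
          refine e4.trans ?_
          change (S.β (n + 1)).app V g.1 (rs (nu X p (n + 1)) f c) +
            (S.β (n + 1)).app V (ap (torL n a).i V x) (rs (nu X p (n + 1)) f c) = _
          rw [e2, e3, ap_rs]
          rfl)
      map_zero' := grp_ext (map_zero _) fun V f g => by
        change (S.β (n + 1)).app V g.1 (rs (nu X p (n + 1)) f 0) = 0
        rw [map_zero, map_zero]
      map_add' := fun c c' => grp_ext (map_add _ _ _) fun V f g => by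
        change (S.β (n + 1)).app V g.1 (rs (nu X p (n + 1)) f (c + c')) =
          (S.β (n + 1)).app V g.1 (rs (nu X p (n + 1)) f c) + (S.β (n + 1)).app V g.1 (rs (nu X p (n + 1)) f c')
        rw [map_add, map_add] })
  (fun {V W} k s => grp_ext (ap_rs _ _ _) fun Z f g => by
    change (S.β (n + 1)).app Z g.1 (rs (nu X p (n + 1)) f (rs (nu X p (n + 1)) k s)) =
      (S.β (n + 1)).app Z g.1 (rs (nu X p (n + 1)) (f ≫ k) s)
    rw [rs_comp])

/-- the morphism of extensions -/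
def square (n : ℕ) (a : ZZ X ⟶ nu X p n) :
    ses (EtCoh.Gm X) p (m := n) (k := 1) (n := n + 1) rfl ⟶ seq (torL n a) (βv S n) where
  τ₁ := mulL (S.β n) a ≫ S.v n (n + 1)
  τ₂ := toTw S n a
  τ₃ := 𝟙 _
  comm₁₂ := hom_ext fun U c => by
    refine grp_ext ?_ fun V f g => ?_
    · change (0 : EtCoh.sect (nu X p 1) U) =
        ap (rm p (n + 1) 1 (by omega)) U (ap (mp (EtCoh.Gm X) p n (n + 1) (p ^ 1) (dvd_i p rfl)) U c)
      have e1 := congrArg (fun f => ap f U c) (ses (EtCoh.Gm X) p (m := n) (k := 1) (n := n + 1) rfl).zero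
      exact e1.symm
    · change rs (S.Q (n + 1)) f (ap (S.v n (n + 1)) U ((S.β n).app U (fam a U) c)) =
        (S.β (n + 1)).app V g.1 (rs (nu X p (n + 1)) f
          (ap (mp (EtCoh.Gm X) p n (n + 1) (p ^ 1) (dvd_i p rfl)) U c))
      have e1 : mp (EtCoh.Gm X) p n (n + 1) (p ^ 1) (dvd_i p rfl) = im p n (n + 1) (by omega) :=
        mp_congr _ _ _ _ _ (by rw [Nat.add_sub_cancel_left])
      have e2 : rs (nu X p (n + 1)) f (ap (mp (EtCoh.Gm X) p n (n + 1) (p ^ 1) (dvd_i p rfl)) U c) =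
          ap (im p n (n + 1) (by omega)) V (rs (nu X p n) f c) := by rw [e1, ap_rs]
      have hg : ap (rm p (n + 1) n (by omega)) V g.1 = fam a V := g.2
      have e3 := S.P2 n (n + 1) (by omega) V g.1 (rs (nu X p n) f c)
      refine Eq.trans ?_ ((congrArg ((S.β (n + 1)).app V g.1) e2).trans e3).symm
      have e4 : ap (S.v n (n + 1)) V ((S.β n).app V (ap (rm p (n + 1) n (by omega)) V g.1) (rs (nu X p n) f c)) =
        ap (S.v n (n + 1)) V ((S.β n).app V (fam a V) (rs (nu X p n) f c)) := by rw [← hg]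
      refine Eq.trans ?_ e4.symm
      rw [← ap_rs, ← (S.β n).nat, rs_fam]
  comm₂₃ := hom_ext fun U c => rfl

/-- Functoriality of the boundary of the twist in the pairing. -/
theorem dT_comp {A B K K' : EtCoh.Ab X} (T : Tor A) (β : Pairing A B K) (s : K ⟶ K') (i : ℕ) (b : EE B i) :
    dT T (β.cmp s) i b = hmE s (i + 1) (dT T β i b) := by
  have e2 := dl_nat (ZZ X) (K720.Tw.shortExact T β) (K720.Tw.shortExact T (β.cmp s))
    (mapSeq T β (β.cmp s) (𝟙 _) s (fun U a b => rfl)) i b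
  have e0 : hmE (𝟙 B) i b = b := hm_id _ _ _
  exact (congrArg (dT T (β.cmp s) i) e0.symm).trans e2

/-- The boundary of the twist from a morphism of extensions. -/
theorem dT_of_hom {A B N : EtCoh.Ab X} (T : Tor A) (β : Pairing A B N) (S : ShortComplex (EtCoh.Ab X)) (hS : S.ShortExact)
    (φ : S ⟶ seq T β) (i : ℕ) (b : EE S.X₃ i) :
    dT T β i (hmE φ.τ₃ i b) = hmE φ.τ₁ (i + 1) (dlE hS i b) :=
  dl_nat (ZZ X) hS (K720.Tw.shortExact T β) φ i b

/-- The square: `v (a · δ b) = δ_{tw} b` in `H^3(Q (n + 1))`. -/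
theorem square_dl (n : ℕ) (a : ZZ X ⟶ nu X p n) (b : EE (nu X p 1) 2) :
    hmE (S.v n (n + 1)) 3 (hmE (mulL (S.β n) a) 3
      (dl (ZZ X) (shortExact (EtCoh.Gm X) p (m := n) (k := 1) (n := n + 1) rfl) 2 b)) =
      hmE (S.v 1 (n + 1)) 3 (dT (torL n a) (S.β 1) 2 b) := by
  have e1 := dT_of_hom (torL n a) (βv S n) _ (shortExact (EtCoh.Gm X) p (m := n) (k := 1) (n := n + 1) rfl)
    (square S n a) 2 b
  have e0 : hmE (𝟙 (nu X p 1)) 2 b = b := hm_id _ _ _
  have e3 : dT (torL n a) (βv S n) 2 b = hmE (mulL (S.β n) a ≫ S.v n (n + 1)) 3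
      (dl (ZZ X) (shortExact (EtCoh.Gm X) p (m := n) (k := 1) (n := n + 1) rfl) 2 b) :=
    (congrArg (dT (torL n a) (βv S n) 2) e0.symm).trans e1
  rw [← hm_comp]
  exact e3.symm.trans (dT_comp (torL n a) (S.β 1) (S.v 1 (n + 1)) 2 b)

end K769.Formal
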