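import Groth.Agent.EtCoh.K769.Formal

/-!
# The formal theorem

`K769.Formal.formal`: from the level one data (finiteness, orders, `N0`), injectivity modulo the kernel of `s` of
`H^3(Q 1) → H^3(Q n)` (`INJ`) and the lifting statement `N1` for the torsors of liftings, the groups `H^i(G_m / p ^ n)`,
`i ≤ 3`, are finite and isomorphic to `H^(3 - i)(G_m / p ^ n)`.
-/

set_option autoImplicit false
universe u
open CategoryTheory CategoryTheory.Limits CategoryTheory.Abelian AlgebraicGeometry Opposite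
open K769.Coef K769.Les K769.Count K769.Pair K720.Tw

attribute [local instance 3000] K769.Inst.hsE K769.Inst.hxE

noncomputable section

namespace K769.Formal

variable {X : Scheme.{u}} {p : ℕ}

/-- A torsor which is trivial Zariski-locally on `X`. -/
def ZLoc {A : EtCoh.Ab X} (T : Tor A) : Prop :=
  ∀ x : X, ∃ V : X.Opens, x ∈ V ∧ ∀ W : X.Etale, Set.range W.hom ⊆ (V : Set X) → (T.P W).Nonempty

/-- Sections of `G_m / p ^ n` lift to units Zariski-locally (Hilbert 90). -/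
theorem exists_unit [Mono (p • 𝟙 (EtCoh.Gm X))] (n : ℕ) (a : ZZ X ⟶ nu X p n) (x : X) :
    ∃ V : X.Opens, x ∈ V ∧ ∀ W : X.Etale, Set.range W.hom ⊆ (V : Set X) →
      ∃ w : EtCoh.sect (EtCoh.Gm X) W, ap (q (EtCoh.Gm X) p n) W w = fam a W := by
  have hS := K769.Count.shortExact_sG (EtCoh.Gm X) p n
  obtain ⟨V, hxV, ⟨t⟩⟩ := Groth.Agent.CurvesA.Hilbert90.exists_open
    (Groth.Agent.CurvesA.LiftsTorsor.isTorsor hS (EtCore.topIsTerminal X) (sec (nu X p n) a)) (EtCoh.top X) x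
    (Groth.Agent.CurvesA.LiftsTorsor.supp_mem hS (EtCore.topIsTerminal X) _ (EtCoh.top X))
  have key : ∀ (V : X.Opens) (W : X.Etale), Set.range W.hom ⊆ (V : Set X) →
      ∃ k : W.left ⟶ (V : Scheme.{u}), k ≫ V.ι ≫ 𝟙 X = W.hom := fun V W hW => by
    have h1 : Set.range W.hom ⊆ Set.range V.ι := by
      rw [Scheme.Opens.range_ι]
      exact hW
    exact ⟨IsOpenImmersion.lift V.ι W.hom h1, by rw [Category.comp_id]; exact IsOpenImmersion.lift_fac V.ι W.hom h1⟩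
  refine ⟨V, hxV, fun W hW => ?_⟩
  obtain ⟨k, hk⟩ := key V W hW
  let g : W ⟶ Scheme.Etale.mk (V.ι ≫ (EtCoh.top X).hom) := MorphismProperty.Over.homMk k hk trivial
  refine ⟨rs (EtCoh.Gm X) g t.1, ?_⟩
  rw [ap_rs, ← rs_fam a g]
  exact congrArg (rs (nu X p n) g) t.2

theorem zloc_torL [Mono (p • 𝟙 (EtCoh.Gm X))] (n : ℕ) (a : ZZ X ⟶ nu X p n) : ZLoc (torL n a) := by
  intro x
  obtain ⟨V, hxV, hV⟩ := exists_unit n a x
  refine ⟨V, hxV, fun W hW => ?_⟩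
  obtain ⟨w, hw⟩ := hV W hW
  refine ⟨ap (q (EtCoh.Gm X) p (n + 1)) W w, ?_⟩
  have e1 : q (EtCoh.Gm X) p (n + 1) ≫ mp (EtCoh.Gm X) p (n + 1) n 1 (dvd_r p (add_comm 1 n)) = q (EtCoh.Gm X) p n := by
    rw [q_mp, one_smul]
  change ap (mp (EtCoh.Gm X) p (n + 1) n 1 (dvd_r p (add_comm 1 n))) W (ap (q (EtCoh.Gm X) p (n + 1)) W w) = fam a W
  rw [← ap_comp, e1, hw]

/-- Functionals on `H^3(Q 1)` killing the kernel of `v` extend along `v`. -/
theorem exists_tN {H1 H2 : Type*} [AddCommGroup H1] [AddCommGroup H2] (v : H1 →+ H2)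
    (t : H1 →+ K956.Count.T) (h : ∀ z, v z = 0 → t z = 0) : ∃ t' : H2 →+ K956.Count.T, ∀ z, t' (v z) = t z := by
  let χ : H1 ⧸ v.ker →+ K956.Count.T := QuotientAddGroup.lift v.ker t (fun z hz => h z hz)
  obtain ⟨t', ht'⟩ := K956.Count.exists_extension (QuotientAddGroup.kerLift v) (QuotientAddGroup.kerLift_injective v) χ
  exact ⟨t', fun z => ht' (QuotientAddGroup.mk z)⟩

theorem hm_v (S : Sys X p) {n N : ℕ} (hN : n + 1 ≤ N) (x : EE (S.Q 1) 3) (y : EE (S.Q n) 3)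
    (e : hmE (S.v n (n + 1)) 3 y = hmE (S.v 1 (n + 1)) 3 x) :
    hmE (S.v 1 N) 3 x = hmE (S.v n N) 3 y := by
  rw [← S.v_comp 1 (n + 1) N (by omega) hN, hm_comp, ← e, ← hm_comp, S.v_comp n (n + 1) N (by omega) hN]

/-- The formal theorem, in terms of a functional on `H^3(Q 1)`. -/
theorem formal₀ [Mono (p • 𝟙 (EtCoh.Gm X))] (hp : p.Prime) (S : Sys X p)
    (t : EE (S.Q 1) 3 →+ K956.Count.T)
    (hfin : ∀ i ≤ 3, Finite (EE (nu X p 1) i)) (hv : Subsingleton (EE (nu X p 1) 4))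
    (h03 : Nat.card (EE (nu X p 1) 0) = Nat.card (EE (nu X p 1) 3))
    (h12 : Nat.card (EE (nu X p 1) 1) = Nat.card (EE (nu X p 1) 2))
    (INJ : ∀ n, 1 ≤ n → ∀ z : EE (S.Q 1) 3, hmE (S.v 1 n) 3 z = 0 → t z = 0)
    (N0 : ∀ a : ZZ X ⟶ nu X p 1, a ≠ 0 → ∃ y : EE (nu X p 1) 3, t (hmE (mulL (S.β 1) a) 3 y) ≠ 0)
    (N1 : ∀ n, 1 ≤ n → ∀ a : ZZ X ⟶ nu X p n, ZLoc (torL n a) →
      (∀ b : EE (nu X p 1) 2, t (dT (torL n a) (S.β 1) 2 b) = 0) →
      ((torL n a).P (EtCoh.top X)).Nonempty)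
    (n i : ℕ) (hi : i ≤ 3) :
    Finite (EE (nu X p n) i) ∧ Nonempty (EE (nu X p n) i ≃+ EE (nu X p n) (3 - i)) := by
  refine M1 (ZZ X) (EtCoh.Gm X) p hp hfin hv (fun n => ?_) h12 n i hi
  -- the functional at level `N = n + 1`
  obtain ⟨tN, htN⟩ := exists_tN (hmE (S.v 1 (n + 1)) 3) t (INJ (n + 1) (by omega))
  refine M2 (pdata S (n + 1) tN) hfin hv (fun K _ _ _ => ?_) ?_ h03 ?_ n (by omega)
  · exact ⟨K985.PontDual.finite_hom K, (K956.Count.card_hom K).le⟩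
  · intro a ha
    by_contra hne
    obtain ⟨y, hy⟩ := N0 a hne
    apply hy
    rw [← htN]
    exact ha y
  · intro n' hn' hN a hb
    have h1 : ∀ b : EE (nu X p 1) 2, t (dT (torL n' a) (S.β 1) 2 b) = 0 := by
      intro b
      have e4 : hmE (S.v 1 (n + 1)) 3 (dT (torL n' a) (S.β 1) 2 b) =
          hmE (S.v n' (n + 1)) 3 (hmE (mulL (S.β n') a) 3
            (dl (ZZ X) (shortExact (EtCoh.Gm X) p (m := n') (k := 1) (n := n' + 1) rfl) 2 b)) :=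
        hm_v S hN _ _ (square_dl S n' a b)
      exact (htN _).symm.trans ((congrArg tN e4).trans (hb b))
    obtain ⟨g, hg⟩ := N1 n' hn' a (zloc_torL n' a) h1
    refine ⟨(sec (nu X p (n' + 1))).symm g, ?_⟩
    apply (sec (nu X p n')).injective
    refine (sec_comp _ _).trans ?_
    have e1 : sec (nu X p (n' + 1)) ((sec (nu X p (n' + 1))).symm g) = g := (sec (nu X p (n' + 1))).apply_symm_apply g
    refine (congrArg (ap (mp (EtCoh.Gm X) p (n' + 1) n' 1 (dvd_r p (add_comm 1 n'))) (EtCoh.top X)) e1).trans ?_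
    exact (show _ = fam a (EtCoh.top X) from hg).trans (fam_top a)

/-- The formal theorem. -/
theorem formal [Mono (p • 𝟙 (EtCoh.Gm X))] (hp : p.Prime) (S : Sys X p) (N3 : EtCoh.Ab X) (s : S.Q 1 ⟶ N3)
    (t : EE N3 3 →+ K956.Count.T)
    (hfin : ∀ i ≤ 3, Finite (EE (nu X p 1) i)) (hv : Subsingleton (EE (nu X p 1) 4))
    (h03 : Nat.card (EE (nu X p 1) 0) = Nat.card (EE (nu X p 1) 3))
    (h12 : Nat.card (EE (nu X p 1) 1) = Nat.card (EE (nu X p 1) 2))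
    (INJ : ∀ n, 1 ≤ n → ∀ z : EE (S.Q 1) 3, hmE (S.v 1 n) 3 z = 0 → t (hmE s 3 z) = 0)
    (N0 : ∀ a : ZZ X ⟶ nu X p 1, a ≠ 0 → ∃ y : EE (nu X p 1) 3, t (hmE (mulL (S.β 1) a ≫ s) 3 y) ≠ 0)
    (N1 : ∀ n, 1 ≤ n → ∀ a : ZZ X ⟶ nu X p n, ZLoc (torL n a) →
      (∀ b : EE (nu X p 1) 2, t (dT (torL n a) ((S.β 1).cmp s) 2 b) = 0) →
      ((torL n a).P (EtCoh.top X)).Nonempty)
    (n i : ℕ) (hi : i ≤ 3) :
    Finite (EE (nu X p n) i) ∧ Nonempty (EE (nu X p n) i ≃+ EE (nu X p n) (3 - i)) := by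
  refine formal₀ hp S (t.comp (hmE s 3)) hfin hv h03 h12 INJ (fun a ha => ?_) (fun n hn a hz hb => ?_) n i hi
  · obtain ⟨y, hy⟩ := N0 a ha
    refine ⟨y, ?_⟩
    rw [hm_comp] at hy
    exact hy
  · refine N1 n hn a hz fun b => ?_
    exact (congrArg t (dT_comp (torL n a) (S.β 1) s 2 b)).trans (hb b)

end K769.Formal
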