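import Groth.Agent.EtCoh.K769.Count

/-!
# `|H^0(A n)| = |H^3(A n)|` for all `n` from level one and a pairing (M2)

`A n = G / p ^ n` in an abelian category, `H^i = Ext Z - i`.  `PData N` : objects `Q n`, for every global section
`a : Z ⟶ A n` a morphism `μ n a : A n ⟶ Q n` ("multiplication by `a`"), morphisms `v m n : Q m ⟶ Q n`
("multiplication by `p ^ (n - m)`"), functionals `t n` on `H^3(Q n)` with `t n ∘ v m n = t m`, and the two projection
formulas `P1`, `P2`.
-/

set_option autoImplicit false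
universe w v u w'
open CategoryTheory CategoryTheory.Limits CategoryTheory.Abelian K769.Coef K769.Les K769.Count

namespace K769.Pair

/-- the counting argument -/
theorem count {H0 : Type v} {H3 : Type w} {D : Type w'} [AddCommGroup H0] [AddCommGroup H3] [AddCommGroup D] [Finite H0] [Finite H3]
    (B : H0 →+ H3 →+ D) (R : AddSubgroup H0) (K : AddSubgroup H3) (hRK : ∀ a ∈ R, ∀ x ∈ K, B a x = 0)
    (hR : ∀ a, (∀ x ∈ K, B a x = 0) → a ∈ R) (hl : ∀ a, (∀ x, B a x = 0) → a = 0)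
    (dK : Finite (K →+ D) ∧ Nat.card (K →+ D) ≤ Nat.card K)
    (dQ : Finite (H3 ⧸ K →+ D) ∧ Nat.card (H3 ⧸ K →+ D) ≤ Nat.card (H3 ⧸ K))
    (h : Nat.card H0 = Nat.card H3) : Nat.card (H3 ⧸ K) = Nat.card R := by
  obtain ⟨fK, cK⟩ := dK
  obtain ⟨fQ, cQ⟩ := dQ
  let φ : H0 →+ (K →+ D) :=
    { toFun := fun a => (B a).comp K.subtype
      map_zero' := by rw [map_zero]; rfl
      map_add' := fun a b => by rw [map_add]; rfl }
  have hφ : φ.ker = R := by
    apply le_antisymm
    · intro a ha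
      exact hR a fun x hx => DFunLike.congr_fun (show φ a = 0 from ha) ⟨x, hx⟩
    · intro a ha
      rw [AddMonoidHom.mem_ker]
      ext x
      exact hRK a ha x.1 x.2
  have i1 : Nat.card H0 ≤ Nat.card R * Nat.card K := by
    rw [card_eq φ, hφ]
    exact Nat.mul_le_mul_left _ ((Nat.card_le_card_of_injective _ (Subtype.val_injective (p := (· ∈ φ.range)))).trans cK)
  let ψ : R →+ (H3 ⧸ K →+ D) :=
    { toFun := fun a => QuotientAddGroup.lift K (B a.1) (fun x hx => hRK a.1 a.2 x hx)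
      map_zero' := by
        ext x
        change B 0 x = 0
        rw [map_zero]; rfl
      map_add' := fun a b => by
        ext x
        change B (a.1 + b.1) x = B a.1 x + B b.1 x
        rw [map_add]; rfl }
  have hψ : Function.Injective ψ := by
    rw [injective_iff_map_eq_zero]
    intro a ha
    exact Subtype.ext (hl a.1 fun x => DFunLike.congr_fun ha (QuotientAddGroup.mk x))
  have i2 : Nat.card R ≤ Nat.card (H3 ⧸ K) := (Nat.card_le_card_of_injective _ hψ).trans cQ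
  have c3 : Nat.card H3 = Nat.card (H3 ⧸ K) * Nat.card K := AddSubgroup.card_eq_card_quotient_mul_card_addSubgroup K
  have pK : 0 < Nat.card K := Nat.card_pos
  apply le_antisymm _ i2
  refine Nat.le_of_mul_le_mul_right ?_ pK
  rw [← c3, ← h]
  exact i1

section

variable {C : Type u} [Category.{v} C] [Abelian C] [HasExt.{w} C] (Z : C)

/-- composition with `f` -/
def ph {F F' : C} (f : F ⟶ F') : (Z ⟶ F) →+ (Z ⟶ F') where
  toFun a := a ≫ f
  map_zero' := zero_comp
  map_add' _ _ := Preadditive.add_comp _ _ _ _ _ _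

theorem card_range_ph {F F' : C} (f : F ⟶ F') : Nat.card (hm Z f 0).range = Nat.card (ph Z f).range := by
  have key : ∀ a : Z ⟶ F, hm Z f 0 (Ext.mk₀ a) = Ext.mk₀ (a ≫ f) := fun a => by
    rw [hm_apply, Ext.mk₀_comp_mk₀]
  refine Nat.card_congr
    { toFun := fun x => ⟨Ext.addEquiv₀ x.1, ?_⟩
      invFun := fun x => ⟨Ext.mk₀ x.1, ?_⟩
      left_inv := fun x => Subtype.ext (Ext.mk₀_addEquiv₀_apply x.1)
      right_inv := fun x => Subtype.ext (Ext.addEquiv₀.apply_symm_apply x.1) }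
  · obtain ⟨x, y, rfl⟩ := x
    obtain ⟨y, rfl⟩ := Ext.addEquiv₀.symm.surjective y
    refine ⟨y, ?_⟩
    change y ≫ f = Ext.addEquiv₀ (hm Z f 0 (Ext.mk₀ y))
    rw [key]
    exact (Ext.addEquiv₀.apply_symm_apply (y ≫ f)).symm
  · obtain ⟨_, y, rfl⟩ := x
    exact ⟨Ext.mk₀ y, key y⟩

theorem card_ext_zero (F : C) : Nat.card (Ext Z F 0) = Nat.card (Z ⟶ F) := Nat.card_congr Ext.addEquiv₀.toEquiv

end

variable {C : Type u} [Category.{v} C] [Abelian C] [HasExt.{w} C] (Z : C) (G : C) (p : ℕ)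

/-- pairings in degrees `(0, 3)` with values in `D` -/
structure PData (D : Type w') [AddCommGroup D] (N : ℕ) where
  /-- the targets -/
  Q : ℕ → C
  /-- multiplication by `p ^ (n - m)`, `m ≤ n` -/
  v : ∀ m n, Q m ⟶ Q n
  /-- multiplication by a global section -/
  μ : ∀ n, (Z ⟶ A G p n) →+ (A G p n ⟶ Q n)
  /-- the functionals -/
  t : ∀ n, Ext Z (Q n) 3 →+ D
  t_v : ∀ m n, m ≤ n → n ≤ N → ∀ x : Ext Z (Q m) 3, t n (hm Z (v m n) 3 x) = t m x
  P1 : ∀ m n (h : m ≤ n), n ≤ N → ∀ a : Z ⟶ A G p m,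
    μ n (a ≫ mp G p m n (p ^ (n - m)) (dvd_i p (by omega))) =
      mp G p n m 1 (by rw [one_mul]; exact pow_dvd_pow p h) ≫ μ m a ≫ v m n
  P2 : ∀ m n (h : m ≤ n), n ≤ N → ∀ a : Z ⟶ A G p n,
    mp G p m n (p ^ (n - m)) (dvd_i p (by omega)) ≫ μ n a =
      μ m (a ≫ mp G p n m 1 (by rw [one_mul]; exact pow_dvd_pow p h)) ≫ v m n

variable {Z G p} {D : Type w'} [AddCommGroup D] {N : ℕ} (P : PData Z G p D N)

/-- the pairing `H^0(A n) × H^3(A n) → D` -/
noncomputable def PData.B (n : ℕ) : (Z ⟶ A G p n) →+ (Ext Z (A G p n) 3 →+ D) where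
  toFun a := (P.t n).comp (hm Z (P.μ n a) 3)
  map_zero' := by
    ext x
    rw [map_zero, AddMonoidHom.comp_apply, hm_zero, map_zero]
    rfl
  map_add' a b := by
    ext x
    rw [map_add, AddMonoidHom.comp_apply, hm_add, map_add]
    rfl

theorem PData.B_apply (n : ℕ) (a : Z ⟶ A G p n) (x : Ext Z (A G p n) 3) :
    P.B n a x = P.t n (hm Z (P.μ n a) 3 x) := rfl

theorem PData.B_i (m n : ℕ) (h : m ≤ n) (hN : n ≤ N) (a : Z ⟶ A G p m) (x : Ext Z (A G p n) 3) :
    P.B n (a ≫ mp G p m n (p ^ (n - m)) (dvd_i p (by omega))) x =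
      P.B m a (hm Z (mp G p n m 1 (by rw [one_mul]; exact pow_dvd_pow p h)) 3 x) := by
  rw [B_apply, B_apply, P.P1 m n h hN, hm_comp, hm_comp, P.t_v m n h hN]

theorem PData.B_r (m n : ℕ) (h : m ≤ n) (hN : n ≤ N) (a : Z ⟶ A G p n) (x : Ext Z (A G p m) 3) :
    P.B n a (hm Z (mp G p m n (p ^ (n - m)) (dvd_i p (by omega))) 3 x) =
      P.B m (a ≫ mp G p n m 1 (by rw [one_mul]; exact pow_dvd_pow p h)) x := by
  rw [B_apply, B_apply, ← P.t_v m n h hN, ← hm_comp, ← hm_comp, P.P2 m n h hN]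

variable [Mono (p • 𝟙 G)]

theorem surj_of_subsingleton (hv : Subsingleton (Ext Z (A G p 1) 4)) {m k n : ℕ} (h : m + k = n)
    (x : Ext Z (A G p k) 3) : ∃ y : Ext Z (A G p n) 3, hm Z (mp G p n k 1 (dvd_r p h)) 3 y = x := by
  have h4 := subsingleton_A Z G p 4 hv m
  have h5 := ker_dl Z (shortExact G p h) 3
  have h6 : x ∈ (dl Z (shortExact G p h) 3).ker := by
    rw [AddMonoidHom.mem_ker]
    exact h4.elim _ _
  rw [h5] at h6
  exact h6

/-- left nondegeneracy at all levels -/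
theorem left (hv : Subsingleton (Ext Z (A G p 1) 4))
    (h1 : ∀ a : Z ⟶ A G p 1, (∀ x, P.B 1 a x = 0) → a = 0) (n : ℕ) (hn : 1 ≤ n) (hN : n ≤ N) :
    ∀ a : Z ⟶ A G p n, (∀ x, P.B n a x = 0) → a = 0 := by
  induction n, hn using Nat.le_induction with
  | base => exact h1
  | succ n hn ih =>
    intro a ha
    have hS := shortExact G p (m := n) (k := 1) (n := n + 1) rfl
    -- the image of `a` in `A 1` is zero
    have e1 : a ≫ mp G p (n + 1) 1 1 (dvd_r p rfl) = 0 := by
      refine h1 _ fun x => ?_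
      have := P.B_r 1 (n + 1) (by omega) hN a x
      rw [ha] at this
      exact this.symm
    have := hS.mono_f
    obtain ⟨a', ha'⟩ : ∃ a' : Z ⟶ A G p n, a' ≫ mp G p n (n + 1) (p ^ 1) (dvd_i p rfl) = a :=
      ⟨hS.exact.lift a e1, hS.exact.lift_f a e1⟩
    have e2 : a' = 0 := by
      refine ih (by omega) a' fun x => ?_
      obtain ⟨y, rfl⟩ := surj_of_subsingleton hv (m := 1) (k := n) (n := n + 1) (by omega) x
      have h2 := P.B_i n (n + 1) (by omega) hN a' y
      have h3 : a' ≫ mp G p n (n + 1) (p ^ (n + 1 - n)) (dvd_i p (by omega)) = a := by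
        rw [← ha']
        congr 1
        exact mp_congr _ _ _ _ _ (by rw [Nat.add_sub_cancel_left])
      rw [h3, ha] at h2
      exact h2.symm
    rw [← ha', e2, zero_comp]

/-- (M2) -/
theorem M2 (hfin : ∀ i ≤ 3, Finite (Ext Z (A G p 1) i)) (hv : Subsingleton (Ext Z (A G p 1) 4))
    (hD : ∀ (K : Type w) [AddCommGroup K] [Finite K], (∀ x : K, (p ^ N) • x = 0) →
      Finite (K →+ D) ∧ Nat.card (K →+ D) ≤ Nat.card K)
    (h1 : ∀ a : Z ⟶ A G p 1, (∀ x, P.B 1 a x = 0) → a = 0)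
    (h03 : Nat.card (Ext Z (A G p 1) 0) = Nat.card (Ext Z (A G p 1) 3))
    (hN1 : ∀ n, 1 ≤ n → n + 1 ≤ N → ∀ a : Z ⟶ A G p n,
      (∀ b : Ext Z (A G p 1) 2, P.B n a (dl Z (shortExact G p (m := n) (k := 1) (n := n + 1) rfl) 2 b) = 0) →
      ∃ a' : Z ⟶ A G p (n + 1), a' ≫ mp G p (n + 1) n 1 (dvd_r p (add_comm 1 n)) = a)
    (n : ℕ) (hN : n ≤ N) : Nat.card (Ext Z (A G p n) 0) = Nat.card (Ext Z (A G p n) 3) := by
  have hf := finite_A Z G p hfin
  induction n with
  | zero =>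
    have := fun i => subsingleton_A_zero Z G p i
    have h : ∀ i, Nat.card (Ext Z (A G p 0) i) = 1 := fun i => Nat.card_unique
    rw [h, h]
  | succ n ih =>
    rcases Nat.eq_zero_or_pos n with rfl | hn
    · exact h03
    have ih := ih (by omega)
    have hS1 := shortExact G p (m := n) (k := 1) (n := n + 1) rfl
    have hS2 := shortExact G p (m := 1) (k := n) (n := n + 1) (add_comm 1 n)
    have f0 : Finite (Z ⟶ A G p n) := by
      have := hf n 0 (by omega)
      exact Finite.of_equiv _ Ext.addEquiv₀.toEquiv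
    have f3 := hf n 3 (by omega)
    let ιn : A G p n ⟶ A G p (n + 1) := mp G p n (n + 1) (p ^ 1) (dvd_i p rfl)
    let rn : A G p (n + 1) ⟶ A G p n := mp G p (n + 1) n 1 (dvd_r p (add_comm 1 n))
    have kill : ∀ x : Ext Z (A G p n) 3, (p ^ N) • x = 0 := fun x => by
      obtain ⟨d, hd⟩ : p ^ n ∣ p ^ N := pow_dvd_pow p (by omega)
      rw [hd, mul_comm, mul_smul, nsmul_eq_zero, smul_zero]
    have hK : (hm Z ιn 3).ker = (dl Z hS1 2).range := ker_f Z hS1 2
    have i3 : Nat.card (Ext Z (A G p n) 3 ⧸ (hm Z ιn 3).ker) = Nat.card (ph Z rn).range := by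
      refine count (P.B n) (ph Z rn).range (hm Z ιn 3).ker ?_ ?_ (left P hv h1 n hn (by omega)) ?_ ?_
        ((card_ext_zero Z _).symm.trans ih)
      · rintro _ ⟨a, rfl⟩ x hx
        have h2 := P.B_r n (n + 1) (by omega) hN a x
        have h3 : hm Z (mp G p n (n + 1) (p ^ (n + 1 - n)) (dvd_i p (by omega))) 3 x = 0 := by
          rw [mp_congr G p n (n + 1) (d := p ^ 1) _ (by rw [Nat.add_sub_cancel_left])]
          exact hx
        rw [h3, map_zero] at h2
        exact h2.symm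
      · intro a ha
        have h5 : ∀ b : Ext Z (A G p 1) 2, P.B n a (dl Z hS1 2 b) = 0 := fun b =>
          ha _ (by rw [hK]; exact ⟨b, rfl⟩)
        obtain ⟨a', ha'⟩ := hN1 n hn hN a h5
        exact ⟨a', ha'⟩
      · refine hD _ fun x => Subtype.ext (kill x.1)
      · refine hD _ fun x => ?_
        obtain ⟨x, rfl⟩ := QuotientAddGroup.mk_surjective x
        rw [← QuotientAddGroup.mk_nsmul, kill, QuotientAddGroup.mk_zero]
    -- conclusion
    have c4 : Nat.card (Ext Z (A G p (n + 1)) 0) = Nat.card (Ext Z (A G p 1) 0) * Nat.card (ph Z rn).range := by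
      have a1 := card₂ Z hS2 0
      have a2 := card₁_zero Z hS2
      rw [← a2] at a1
      rw [← card_range_ph]
      exact a1
    have c5 : Nat.card (Ext Z (A G p (n + 1)) 3) =
        Nat.card (Ext Z (A G p n) 3 ⧸ (hm Z ιn 3).ker) * Nat.card (Ext Z (A G p 1) 3) := by
      have a1 := card₂ Z hS1 3
      have a2 := card₃ Z hS1 3
      have a3 : Nat.card (dl Z hS1 3).range = 1 := by
        have h4 := subsingleton_A Z G p 4 hv n
        have : Subsingleton (dl Z hS1 3).range := ⟨fun a b => Subtype.ext (h4.elim _ _)⟩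
        exact Nat.card_unique
      rw [a3, mul_one] at a2
      rw [← a2] at a1
      have a4 : Nat.card (Ext Z (A G p n) 3 ⧸ (hm Z ιn 3).ker) = Nat.card (hm Z ιn 3).range :=
        Nat.card_congr (QuotientAddGroup.quotientKerEquivRange (hm Z ιn 3)).toEquiv
      rw [a4]
      exact a1
    rw [c4, c5, i3, h03, mul_comm]

end K769.Pair
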