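import Groth.Agent.EtCoh.K769.Main

/-!
# Change of torsor in the twists of `K720.Tw`
-/

set_option autoImplicit false
universe u
open CategoryTheory CategoryTheory.Limits CategoryTheory.Abelian AlgebraicGeometry Opposite
open K769.Coef K769.Les K720.Tw K769.Formal

attribute [local instance 3000] K769.Inst.hsE K769.Inst.hxE

noncomputable section

namespace K769.TorMap

variable {X : Scheme.{u}} {A A' B B' C C' : EtCoh.Ab X}

/-- A morphism of the ambient sheaves mapping the points of `T'` to the points of `T`. -/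
structure TorHom (T : Tor A) (T' : Tor A') where
  /-- on the ambient sheaves -/
  ψ : T'.G ⟶ T.G
  /-- on the groups -/
  e : A' ⟶ A
  comm : T'.i ≫ ψ = e ≫ T.i
  mem : ∀ (V : X.Etale) (g : EtCoh.sect T'.G V), g ∈ T'.P V → ap ψ V g ∈ T.P V

namespace TorHom

variable {T : Tor A} {T' : Tor A'} (θ : TorHom T T')

/-- the image of a point -/
def pt {V : X.Etale} (g : T'.pt V) : T.pt V := ⟨ap θ.ψ V g.1, θ.mem V g.1 g.2⟩

theorem pt_rp {V W : X.Etale} (k : W ⟶ V) (g : T'.pt V) : θ.pt (T'.rp k g) = T.rp k (θ.pt g) :=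
  Subtype.ext (ap_rs θ.ψ k g.1)

theorem pt_tr {V : X.Etale} (g : T'.pt V) (x : EtCoh.sect A' V) : θ.pt (T'.tr g x) = T.tr (θ.pt g) (ap θ.e V x) := by
  apply Subtype.ext
  change ap θ.ψ V (g.1 + ap T'.i V x) = ap θ.ψ V g.1 + ap T.i V (ap θ.e V x)
  rw [map_add, ← ap_comp, ← ap_comp, θ.comm]

variable (β : Pairing A B C) (β' : Pairing A' B' C') (φ : B ⟶ B') (γ : C ⟶ C')
  (h : ∀ (U : X.Etale) (a : EtCoh.sect A' U) (b : EtCoh.sect B U),
    ap γ U (β.app U (ap θ.e U a) b) = β'.app U a (ap φ U b))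

/-- Functoriality of the twist. -/
def map : tw T β ⟶ tw T' β' := mkHom
  (fun U =>
    { toFun := fun z => K720.Tw.mk T' β' (ap φ U (show grp T β U from z).1.1)
        (fun V f g => ap γ V ((show grp T β U from z).1.2 V f (θ.pt g)))
        (fun V W k f g => by rw [pt_rp, (show grp T β U from z).2.1, ap_rs])
        (fun V f g x => by rw [pt_tr, (show grp T β U from z).2.2, map_add, h, ap_rs])
      map_zero' := grp_ext (map_zero _) fun V f g => map_zero _
      map_add' := fun c c' => grp_ext (map_add _ _ _) fun V f g => map_add _ _ _ })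
  (fun {V W} k s => grp_ext (ap_rs _ _ _) fun Z f g => rfl)

/-- The morphism of extensions. -/
def mapSeq : seq T β ⟶ seq T' β' where
  τ₁ := γ
  τ₂ := θ.map β β' φ γ h
  τ₃ := φ
  comm₁₂ := hom_ext fun _ c => grp_ext (map_zero _).symm fun _ f _ => (ap_rs γ f c).symm
  comm₂₃ := hom_ext fun _ _ => rfl

end TorHom

/-- Composition of a pairing with morphisms of the sources. -/
def pre (β : Pairing A' B' C) (f : A ⟶ A') (g : B ⟶ B') : Pairing A B C where
  app U := AddMonoidHom.mk' (fun a => (β.app U (ap f U a)).comp (ap g U)) (fun a a' => AddMonoidHom.ext fun x => by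
    change β.app U (ap f U (a + a')) (ap g U x) = β.app U (ap f U a) (ap g U x) + β.app U (ap f U a') (ap g U x)
    rw [map_add, map_add]
    rfl)
  nat k a b := by
    change β.app _ (ap f _ (rs A k a)) (ap g _ (rs B k b)) = rs C k (β.app _ (ap f _ a) (ap g _ b))
    rw [ap_rs, ap_rs, β.nat]

theorem pre_app (β : Pairing A' B' C) (f : A ⟶ A') (g : B ⟶ B') (U : X.Etale) (a : EtCoh.sect A U)
    (b : EtCoh.sect B U) : (pre β f g).app U a b = β.app U (ap f U a) (ap g U b) := rfl

/-- Transport of a torsor along an isomorphism of groups. -/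
def mapIso (T : Tor A) (e : A ≅ A') : Tor A' where
  G := T.G
  i := e.inv ≫ T.i
  P := T.P
  res := T.res
  add V g x hg := T.add V g (ap e.inv V x) hg
  inj V x hx := by
    have h1 : ap e.inv V x = 0 := T.inj V _ hx
    have h2 : ap e.hom V (ap e.inv V x) = x := by
      rw [← ap_comp, Iso.inv_hom_id]
      rfl
    rw [← h2, h1, map_zero]
  diff V g g' hg hg' := by
    obtain ⟨x, hx⟩ := T.diff V g g' hg hg'
    refine ⟨ap e.hom V x, ?_⟩
    have h2 : ap e.inv V (ap e.hom V x) = x := by
      rw [← ap_comp, Iso.hom_inv_id]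
      rfl
    rw [hx, ap_comp, h2]
  loc := T.loc

/-- The comparison. -/
def toMapIso (T : Tor A) (e : A ≅ A') : TorHom T (mapIso T e) where
  ψ := 𝟙 _
  e := e.inv
  comm := Category.comp_id _
  mem _ _ hg := hg

/-- The boundary of the twist by a transported torsor. -/
theorem dT_mapIso {N : EtCoh.Ab X} (T : Tor A) (e : A ≅ A') (β : Pairing A A N) (β' : Pairing A' A' N)
    (h : ∀ (U : X.Etale) (a : EtCoh.sect A' U) (b : EtCoh.sect A U),
      β.app U (ap e.inv U a) b = β'.app U a (ap e.hom U b)) (i : ℕ) (b : EE A' i) :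
    dT (mapIso T e) β' i b = dT T β i (hmE e.inv i b) := by
  have e2 := dT_of_hom (mapIso T e) β' _ (K720.Tw.shortExact T β) ((toMapIso T e).mapSeq β β' e.hom (𝟙 N) h) i
    (hmE e.inv i b)
  have e3 : hmE e.hom i (hmE e.inv i b) = b := by
    rw [← hm_comp, Iso.inv_hom_id, hm_id]
  refine (congrArg (dT (mapIso T e) β' i) e3.symm).trans (e2.trans ?_)
  exact hm_id (Formal.ZZ X) (i + 1) _

end K769.TorMap
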